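import Cfsg.Agent.Lib.Transfer.Product.Split.Basic

/-!
# Moving a 2-element and its centralizer

Transfer for a 2-element whose proper powers avoid the complement of a maximal subgroup, and conjugation of
centralizers onto a largest one.
-/

set_option autoImplicit false
set_option linter.unusedSectionVars false
set_option linter.style.haveILetI false

namespace Cfsg.Agent.SDFactor

open Cfsg Cfsg.Agent.Invol Cfsg.Agent.ProdFus

universe u

variable {G : Type u} [Group G] [Finite G]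

/-- The cosets of a subgroup fixed by every element of a `2`-subgroup, with an invariant property of odd
count. -/
theorem exists_fixed_of_odd {P : Sylow 2 G} {T : Subgroup G} (hT : IsPGroup 2 T)
    (γ : G ⧸ (P : Subgroup G) → Prop) (hinv : ∀ t ∈ T, ∀ q, γ q → γ (t • q))
    (hodd : Odd (Nat.card {q // γ q})) : ∃ q, γ q ∧ ∀ t ∈ T, t • q = q := by
  haveI : Fact (Nat.Prime 2) := ⟨Nat.prime_two⟩
  have hmod := Invol.card_invariant_modEq hT γ hinv
  rw [Nat.odd_iff] at hodd
  rcases Nat.eq_zero_or_pos (Nat.card {q // γ q ∧ ∀ t ∈ T, t • q = q}) with e | e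
  · rw [e, Nat.ModEq, hodd] at hmod; omega
  · obtain ⟨⟨q, hq⟩⟩ := (Nat.card_pos_iff.1 e).1
    exact ⟨q, hq⟩

/-- Transfer: without subgroups of index two a `2`-element whose proper powers avoid the complement of a
maximal subgroup of the Sylow subgroup moves into that subgroup, taking a given 2-subgroup of its
centralizer into the Sylow subgroup. -/
theorem exists_move_pow (h2 : ∀ N : Subgroup G, N.Normal → N.index ≠ 2) (P : Sylow 2 G)
    {M : Subgroup G} (hM : M.relIndex (P : Subgroup G) = 2) {x : G} (hx : ∃ k, orderOf x = 2 ^ k)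
    (hpow : ∀ g : G, ∀ i : ℕ, 2 ∣ i → g * x ^ i * g⁻¹ ∈ (P : Subgroup G) → g * x ^ i * g⁻¹ ∈ M)
    {T : Subgroup G} (hT : IsPGroup 2 T) (hTx : ∀ t ∈ T, Commute t x) :
    ∃ g : G, (∀ t ∈ T, g * t * g⁻¹ ∈ (P : Subgroup G)) ∧ g * x * g⁻¹ ∈ M := by
  classical
  haveI : Fact (Nat.Prime 2) := ⟨Nat.prime_two⟩
  obtain ⟨k, hk⟩ := hx
  cases nonempty_fintype (G ⧸ (P : Subgroup G))
  set H := (P : Subgroup G) with hH
  set M' := M.subgroupOf H with hM'
  have hi : M'.index = 2 := hM
  have hsq : Multiplicative.ofAdd (1 : ZMod 2) * Multiplicative.ofAdd (1 : ZMod 2) = 1 := by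
    rw [← ofAdd_add, show (1 : ZMod 2) + 1 = 0 from CharTwo.add_self_eq_zero 1, ofAdd_zero]
  let φ : ↥H →* Multiplicative (ZMod 2) :=
    MonoidHom.mk' (fun y => if y ∈ M' then 1 else Multiplicative.ofAdd 1) fun y z => by
      have hyz := Subgroup.mul_mem_iff_of_index_two hi (a := y) (b := z)
      by_cases ha : y ∈ M' <;> by_cases hb : z ∈ M' <;> simp_all
  have hφ : ∀ y : ↥H, φ y = if (y : G) ∈ M then 1 else Multiplicative.ofAdd 1 := fun y => by
    show (if y ∈ M' then _ else _) = _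
    simp only [hM', Subgroup.mem_subgroupOf]
  have h11 : (1 : Multiplicative (ZMod 2)) ≠ Multiplicative.ofAdd 1 := fun e =>
    one_ne_zero (α := ZMod 2) (Multiplicative.ofAdd.injective e).symm
  -- the fixed cosets landing outside `M`
  set β : G ⧸ H → Prop := fun q => ∃ y : G, QuotientGroup.mk y = q ∧ y⁻¹ * x * y ∈ H ∧ y⁻¹ * x * y ∉ M
    with hβ
  have hfix : ∀ {q : G ⧸ H}, β q → x • q = q := by
    rintro q ⟨y, rfl, hy, -⟩
    exact Invol.smul_mk_eq_iff.2 hy
  have hout : ∀ q : G ⧸ H, q.out⁻¹ * x * q.out ∈ H → (β q ↔ q.out⁻¹ * x * q.out ∉ M) := by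
    intro q hq
    refine ⟨?_, fun hne => ⟨q.out, QuotientGroup.out_eq' q, hq, hne⟩⟩
    rintro ⟨y, hy, hyH, hyM⟩ hmem
    obtain ⟨s, hs⟩ : ∃ s ∈ H, q.out = y * s := by
      refine ⟨y⁻¹ * q.out, ?_, by rw [mul_inv_cancel_left]⟩
      rw [← QuotientGroup.eq, hy, QuotientGroup.out_eq']
    refine hyM ?_
    have e : q.out⁻¹ * x * q.out = s⁻¹ * (y⁻¹ * x * y) * s := by rw [hs.2]; group
    rw [e] at hmem
    have h1 := congrArg (fun z : ↥H => φ z) (show (⟨_, mul_mem (mul_mem (inv_mem hs.1) hyH) hs.1⟩ : ↥H) =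
      (⟨s, hs.1⟩ : ↥H)⁻¹ * ⟨_, hyH⟩ * ⟨s, hs.1⟩ from Subtype.ext (by simp))
    simp only [map_mul, map_inv] at h1
    rw [mul_comm, mul_inv_cancel_left, hφ, hφ, if_pos hmem] at h1
    by_contra hne
    rw [if_neg hne] at h1
    exact h11 h1
  have htr : MonoidHom.transfer φ x = 1 := by
    by_contra hne
    refine h2 (MonoidHom.transfer φ).ker inferInstance ?_
    rw [Subgroup.index_ker]
    have hle : Nat.card (MonoidHom.transfer φ).range ≤ 2 :=
      (Subgroup.card_le_card_group _).trans (le_of_eq (by simp))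
    have hge : 1 < Nat.card (MonoidHom.transfer φ).range := Finite.one_lt_card_iff_nontrivial.2
      ⟨⟨⟨_, x, rfl⟩, 1, fun e => hne (congrArg Subtype.val e)⟩⟩
    omega
  -- evenly many of them, by the transfer
  have heven : Even (Nat.card {q // β q}) := by
    rw [MonoidHom.transfer_eq_prod_quotient_orbitRel_zpowers_quot] at htr
    set Ω := Quotient (MulAction.orbitRel (Subgroup.zpowers x) (G ⧸ H))
    have hval : ∀ o : Ω, φ ⟨_, QuotientGroup.out_conj_pow_minimalPeriod_mem H x o.out⟩ =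
        if β o.out then Multiplicative.ofAdd 1 else 1 := by
      intro o
      have hmem := QuotientGroup.out_conj_pow_minimalPeriod_mem H x o.out
      rw [hφ]
      by_cases h1 : Function.minimalPeriod (x • ·) o.out = 1
      · simp only [h1, pow_one] at hmem ⊢
        by_cases hb : β o.out
        · rw [if_pos hb, if_neg ((hout _ hmem).1 hb)]
        · rw [if_neg hb, if_pos (not_not.1 fun hne => hb ((hout _ hmem).2 hne))]
      · have hb : ¬ β o.out := fun hb => h1 (Function.minimalPeriod_eq_one_iff_isFixedPt.2 (hfix hb))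
        have hd : Function.minimalPeriod (x • ·) o.out ∣ 2 ^ k := by
          rw [← hk]
          refine Function.IsPeriodicPt.minimalPeriod_dvd ?_
          show (x • ·)^[orderOf x] o.out = o.out
          rw [smul_iterate, pow_orderOf_eq_one]
          exact one_smul G _
        have h2d : 2 ∣ Function.minimalPeriod (x • ·) o.out := by
          obtain ⟨i, -, hi⟩ := (Nat.dvd_prime_pow Nat.prime_two).1 hd
          rw [hi] at h1 ⊢
          rcases i with _ | i
          · exact absurd (pow_zero 2) h1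
          · exact dvd_pow_self 2 (by omega)
        rw [if_neg hb, if_pos]
        have := hpow o.out.out⁻¹ _ h2d (by rw [inv_inv]; exact hmem)
        rwa [inv_inv] at this
    rw [Finset.prod_congr rfl fun o _ => hval o, Finset.prod_ite, Finset.prod_const, Finset.prod_const,
      one_pow, mul_one] at htr
    have hd := orderOf_dvd_of_pow_eq_one htr
    have ho : orderOf (Multiplicative.ofAdd (1 : ZMod 2)) = 2 := orderOf_eq_prime (by rw [pow_two]; exact hsq) h11.symm
    rw [ho] at hd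
    rw [even_iff_two_dvd]
    suffices e : Nat.card {q // β q} = (Finset.univ.filter fun o : Ω => β o.out).card by
      rw [e]; exact hd
    rw [← Fintype.card_subtype, ← Nat.card_eq_fintype_card]
    refine Nat.card_congr
      { toFun := fun q => ⟨Quotient.mk'' q.1, ?_⟩
        invFun := fun o => ⟨o.1.out, o.2⟩
        left_inv := fun q => Subtype.ext ?_
        right_inv := fun o => Subtype.ext (Quotient.out_eq' o.1) }
    all_goals
      have e : (Quotient.mk'' q.1 : Ω).out = q.1 := by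
        obtain ⟨⟨z, hz⟩, e⟩ := MulAction.mem_orbit_iff.1
          (MulAction.orbitRel_apply.1 (Quotient.mk_out' (s₁ := MulAction.orbitRel
            (Subgroup.zpowers x) (G ⧸ H)) q.1))
        rw [← e]
        obtain ⟨i, rfl⟩ := Subgroup.mem_zpowers_iff.1 hz
        exact MulAction.mem_fixedBy.1 (MulAction.mem_fixedBy_zpowers_iff_mem_fixedBy.2
          (MulAction.mem_fixedBy.2 (hfix q.2)) i)
    · exact e.symm ▸ q.2
    · exact e
  have hfodd : Odd (Nat.card {q : G ⧸ H // x • q = q}) := by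
    have hR : IsPGroup 2 (Subgroup.zpowers x) := IsPGroup.of_card (n := k) (by rw [Nat.card_zpowers, hk])
    have h := Invol.card_invariant_modEq hR (fun _ : G ⧸ H => True) (fun _ _ _ _ => trivial)
    have hodd : Odd (Nat.card (G ⧸ H)) := by
      rw [← Subgroup.index_eq_card, Nat.odd_iff, ← Nat.two_dvd_ne_zero]
      exact P.not_dvd_index
    rw [Nat.card_congr (Equiv.subtypeUnivEquiv (fun _ => trivial))] at h
    rw [Nat.odd_iff] at hodd ⊢
    rw [← hodd, show Nat.card (G ⧸ H) % 2 = _ from h]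
    congr 1
    refine Nat.card_congr (Equiv.subtypeEquivRight fun q => ⟨fun h => ⟨trivial, fun r hr => ?_⟩,
      fun h => h.2 x (Subgroup.mem_zpowers x)⟩)
    obtain ⟨i, rfl⟩ := Subgroup.mem_zpowers_iff.1 hr
    exact MulAction.mem_fixedBy.1 (MulAction.mem_fixedBy_zpowers_iff_mem_fixedBy.2
      (MulAction.mem_fixedBy.2 h) i)
  set γ : G ⧸ H → Prop := fun q => x • q = q ∧ ¬ β q
  have hγodd : Odd (Nat.card {q // γ q}) := by
    have e : Nat.card {q : G ⧸ H // x • q = q} = Nat.card {q // β q} + Nat.card {q // γ q} := by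
      rw [← Nat.card_sum]
      refine Nat.card_congr ((Equiv.sumCompl fun q : {q // x • q = q} => β q.1).symm.trans
        (Equiv.sumCongr ?_ ?_))
      · exact (Equiv.subtypeSubtypeEquivSubtypeInter _ _).trans
          (Equiv.subtypeEquivRight fun q => ⟨And.right, fun hb => ⟨hfix hb, hb⟩⟩)
      · exact Equiv.subtypeSubtypeEquivSubtypeInter (fun q => x • q = q) (fun q => ¬ β q)
    rw [Nat.odd_iff] at hfodd ⊢
    rw [Nat.even_iff] at heven
    omega
  obtain ⟨q, hq, hqT⟩ := exists_fixed_of_odd hT γ (fun t ht q hq => by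
    refine ⟨?_, fun hb => hq.2 ?_⟩
    · rw [smul_smul, ← (hTx t ht).eq, mul_smul, hq.1]
    · obtain ⟨y, hy, hyH, hyM⟩ := hb
      have e : (t⁻¹ * y)⁻¹ * x * (t⁻¹ * y) = y⁻¹ * x * y := by
        calc (t⁻¹ * y)⁻¹ * x * (t⁻¹ * y) = y⁻¹ * (t * x * t⁻¹) * y := by group
          _ = y⁻¹ * x * y := by rw [(hTx t ht).eq, mul_inv_cancel_right]
      refine ⟨t⁻¹ * y, ?_, e.symm ▸ hyH, e.symm ▸ hyM⟩
      rw [← smul_eq_mul, ← MulAction.Quotient.smul_mk, hy, inv_smul_smul]) hγodd
  obtain ⟨y, rfl⟩ := QuotientGroup.mk_surjective q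
  refine ⟨y⁻¹, fun t ht => ?_, ?_⟩
  · rw [inv_inv]; exact Invol.smul_mk_eq_iff.1 (hqT t ht)
  · rw [inv_inv]
    by_contra hne
    exact hq.2 ⟨y, rfl, Invol.smul_mk_eq_iff.1 hq.1, hne⟩

/-- If no conjugate of `v` in the Sylow subgroup has a larger centralizer there, every 2-subgroup
centralizing a conjugate `z` of `v` is moved into the Sylow subgroup by an element taking `z` to `v`. -/
theorem exists_move_max (P : Sylow 2 G) {v z g : G} (hv : v ∈ (P : Subgroup G))
    (hmax : ∀ d : G, d * v * d⁻¹ ∈ (P : Subgroup G) →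
      Nat.card ↥((P : Subgroup G) ⊓ Subgroup.centralizer {d * v * d⁻¹}) ≤
        Nat.card ↥((P : Subgroup G) ⊓ Subgroup.centralizer {v}))
    (hg : g * v * g⁻¹ = z) {T : Subgroup G} (hT : IsPGroup 2 T) (hTz : ∀ t ∈ T, Commute t z) :
    ∃ n : G, n * z * n⁻¹ = v ∧ ∀ t ∈ T, n * t * n⁻¹ ∈ (P : Subgroup G) := by
  haveI : Fact (Nat.Prime 2) := ⟨Nat.prime_two⟩
  set H := Subgroup.centralizer ({v} : Set G) with hH
  set Q := (P : Subgroup G) ⊓ H with hQ
  have hQp : IsPGroup 2 (Q.subgroupOf H) :=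
    (P.isPGroup'.to_le inf_le_left).comap_of_injective H.subtype Subtype.val_injective
  obtain ⟨R, hR⟩ := hQp.exists_le_sylow
  obtain ⟨d, hd⟩ := Invol.exists_conj_subset_sylow (R.isPGroup'.map H.subtype) P
  have hvR : (⟨v, Subgroup.mem_centralizer_singleton_iff.2 rfl⟩ : H) ∈ (R : Subgroup H) :=
    hR (Subgroup.mem_subgroupOf.2 ⟨hv, Subgroup.mem_centralizer_singleton_iff.2 rfl⟩)
  have hdv : d * v * d⁻¹ ∈ (P : Subgroup G) := hd _ (Subgroup.mem_map_of_mem H.subtype hvR)
  have hmaps : ∀ r : H, r ∈ (R : Subgroup H) →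
      d * (r : G) * d⁻¹ ∈ (P : Subgroup G) ⊓ Subgroup.centralizer {d * v * d⁻¹} := fun r hr =>
    ⟨hd _ (Subgroup.mem_map_of_mem H.subtype hr), Subgroup.mem_centralizer_singleton_iff.2
      (Split.commute_conj d (show Commute (r : G) v from
        Subgroup.mem_centralizer_singleton_iff.1 r.2)).eq⟩
  have hRQ : Q.subgroupOf H = (R : Subgroup H) := by
    refine Subgroup.eq_of_le_of_card_ge hR ?_
    rw [Nat.card_congr (Subgroup.subgroupOfEquivOfLe (inf_le_right : Q ≤ H)).toEquiv]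
    refine le_trans ?_ (hmax d hdv)
    exact Nat.card_le_card_of_injective
      (fun r : (R : Subgroup H) => (⟨_, hmaps _ r.2⟩ :
        ↥((P : Subgroup G) ⊓ Subgroup.centralizer {d * v * d⁻¹}))) fun r r' e =>
      Subtype.ext (Subtype.ext (mul_left_cancel (mul_right_cancel (congrArg Subtype.val e))))
  set T' := T.map (MulAut.conj g⁻¹).toMonoidHom with hT'
  have hT'H : T' ≤ H := by
    rintro _ ⟨t, ht, rfl⟩
    refine Subgroup.mem_centralizer_singleton_iff.2 ?_
    have := (Split.commute_conj g⁻¹ (hTz t ht)).eq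
    rw [← hg, show g⁻¹ * (g * v * g⁻¹) * g⁻¹⁻¹ = v by group] at this
    exact this
  obtain ⟨c, hc⟩ := Invol.exists_conj_subset_sylow
    ((hT.map (MulAut.conj g⁻¹).toMonoidHom).comap_of_injective H.subtype Subtype.val_injective) R
  refine ⟨(c : G) * g⁻¹, ?_, fun t ht => ?_⟩
  · have e := Subgroup.mem_centralizer_singleton_iff.1 c.2
    calc (c : G) * g⁻¹ * z * ((c : G) * g⁻¹)⁻¹ = (c : G) * v * (c : G)⁻¹ := by rw [← hg]; group
      _ = v := by rw [e, mul_inv_cancel_right]
  · have hmem : g⁻¹ * t * g⁻¹⁻¹ ∈ T' := ⟨t, ht, rfl⟩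
    have h1 := hc ⟨_, hT'H hmem⟩ (Subgroup.mem_subgroupOf.2 hmem)
    change _ ∈ (R : Subgroup H) at h1
    rw [← hRQ] at h1
    have h2 : (c : G) * (g⁻¹ * t * g⁻¹⁻¹) * (c : G)⁻¹ ∈ (P : Subgroup G) :=
      (Subgroup.mem_subgroupOf.1 h1).1
    rwa [show (c : G) * g⁻¹ * t * ((c : G) * g⁻¹)⁻¹ = (c : G) * (g⁻¹ * t * g⁻¹⁻¹) * (c : G)⁻¹ by group]

end Cfsg.Agent.SDFactor
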