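import Cfsg.Agent.Lib.Fus.SDFactor.Semi
import Cfsg.Agent.Lib.Fus.SDFactor.Move
import Cfsg.Agent.Lib.Transfer.Product.Split.Closed

/-!
# Strong closure of a quasi-dihedral factor

The involutions of both factors are closed, and an element of order four outside the cyclic subgroup moves into
it by an element taking the other factor into the Sylow subgroup.
-/

set_option autoImplicit false
set_option linter.unusedSectionVars false
set_option linter.style.haveILetI false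

namespace Cfsg.Agent.SDFactor

open Cfsg Cfsg.Agent.ProdFus Cfsg.Agent.ProdFus.Split
open Cfsg.Agent.Invol (qq)

universe u

variable {G : Type u} [Group G] [Finite G]

/-- What is needed of the other factor: every involution commutes with a second one, and only elements of
square one commute with two commuting involutions. -/
structure Other (A : Subgroup G) : Prop where
  two : ∀ α ∈ A, ∀ u ∈ A, ∀ v ∈ A, orderOf u = 2 → orderOf v = 2 → u ≠ v → Commute u v →
    Commute α u → Commute α v → α * α = 1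
  partner : ∀ u ∈ A, orderOf u = 2 → ∃ v ∈ A, orderOf v = 2 ∧ v ≠ u ∧ Commute u v

namespace Semi

variable {P : Sylow 2 G} {B A : Subgroup G} {n : ℕ} {x y b : G} (h : Semi P B A n x y b)
include h

theorem conj_C {p q : G} (hp : p ∈ (P : Subgroup G)) (hq : q ∈ Subgroup.zpowers x) :
    p * q * p⁻¹ ∈ Subgroup.zpowers x := by
  obtain ⟨w, hw, u, hu, rfl⟩ := h.pair.split hp
  rw [show w * u * q * (w * u)⁻¹ = w * (u * q * u⁻¹) * w⁻¹ by group,
    (h.pair.comm q (h.C_le hq) u hu).symm.eq, mul_inv_cancel_right]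
  obtain ⟨j, rfl⟩ := Subgroup.mem_zpowers_iff.1 hq
  obtain ⟨i, rfl | rfl⟩ := h.cases hw
  · rw [(Commute.zpow_zpow (Commute.refl x) i j).eq, mul_inv_cancel_right]
    exact zpow_mem (Subgroup.mem_zpowers x) _
  · rw [show x ^ i * y * x ^ j * (x ^ i * y)⁻¹ = x ^ i * (y * x ^ j) * y⁻¹ * (x ^ i)⁻¹ by group,
      h.y_zpow]
    refine mul_mem ?_ (inv_mem (zpow_mem (Subgroup.mem_zpowers x) _))
    rw [← mul_assoc, mul_inv_cancel_right]
    exact mul_mem (zpow_mem (Subgroup.mem_zpowers x) _) (zpow_mem (Subgroup.mem_zpowers x) _)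

theorem even_of_low {i : ℤ} (hi : (x ^ i) ^ (2 ^ (n - 1)) = 1) : 2 ∣ i := by
  have e : ((2 ^ (n - 1) : ℕ) : ℤ) = 2 * qq n := by
    rw [Invol.qq, ← pow_succ', show n - 2 + 1 = n - 1 by have := h.hn; omega]
    push_cast
    rfl
  rw [← zpow_natCast, ← zpow_mul, e, h.zpow_eq_one] at hi
  obtain ⟨c, hc⟩ := hi
  exact ⟨c, mul_right_cancel₀ (mul_ne_zero two_ne_zero h.qd.qq_pos.ne')
    (by linarith : i * (2 * qq n) = 2 * c * (2 * qq n))⟩

/-- An element of order `2 ^ n` of `B` lies in the cyclic subgroup. -/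
theorem mem_C_of_order {v : G} (hv : v ∈ B) (ho : orderOf v = 2 ^ n) : v ∈ Subgroup.zpowers x := by
  by_contra hC
  have h8 : 2 ^ 3 ≤ 2 ^ n := Nat.pow_le_pow_right two_pos h.hn
  by_cases h2 : v * v = 1
  · have := Nat.le_of_dvd two_pos (orderOf_dvd_of_pow_eq_one (x := v) (n := 2) (by rw [pow_two]; exact h2))
    omega
  · have := (h.four_conj hv hC h2).1
    omega

theorem sq_ne {v : G} {k : ℕ} (ho : orderOf v = 2 ^ (k + 2)) : v * v ≠ 1 := fun e => by
  have h4 : 2 ^ 2 ≤ 2 ^ (k + 2) := Nat.pow_le_pow_right two_pos (by omega)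
  have := Nat.le_of_dvd two_pos (orderOf_dvd_of_pow_eq_one (x := v) (n := 2) (by rw [pow_two]; exact e))
  omega

/-- The image of an element of order at least four of `B`. -/
theorem image_form (IB : InvolClosed P B) {v w u g : G} {k : ℕ} (hv : v ∈ B)
    (ho : orderOf v = 2 ^ (k + 2)) (hw : w ∈ B) (hu : u ∈ A) (e : g * v * g⁻¹ = w * u) :
    orderOf w = 2 ^ (k + 2) ∧ u ^ (2 ^ (k + 1)) = 1 := by
  haveI : Fact (Nat.Prime 2) := ⟨Nat.prime_two⟩
  have hz : orderOf (v ^ (2 ^ (k + 1))) = 2 := by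
    simpa using orderOf_pow_two_pow (x := v) (i := k + 1) (j := 1) (by rw [ho])
  have himg : g * v ^ (2 ^ (k + 1)) * g⁻¹ = w ^ (2 ^ (k + 1)) * u ^ (2 ^ (k + 1)) := by
    rw [← conj_pow, e, h.pair.pow hw hu]
  have hmem : g * v ^ (2 ^ (k + 1)) * g⁻¹ ∈ B := IB _ (pow_mem hv _) hz g
    (by rw [himg]; exact h.pair.mul_mem' (pow_mem hw _) (pow_mem hu _))
  obtain ⟨h1, h2⟩ := h.pair.uniq hmem (pow_mem hw _) (one_mem A) (pow_mem hu _)
    (by rw [mul_one]; exact himg)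
  refine ⟨orderOf_eq_prime_pow ?_ ?_, h2.symm⟩
  · rw [← h1]
    exact fun e1 => Invol.ne_one_of_orderOf_two hz (conj_eq_one_iff.1 e1)
  · have h3 : (g * v * g⁻¹) ^ (2 ^ (k + 2)) = 1 := by
      rw [conj_pow, ← ho, pow_orderOf_eq_one, mul_one, mul_inv_cancel]
    rw [e, h.pair.pow hw hu] at h3
    exact ((h.pair.eq_one_iff (pow_mem hw _) (pow_mem hu _)).1 h3).1

/-- No conjugate of an element of order at least four of the cyclic subgroup has a larger centralizer. -/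
theorem max_centralizer (IB : InvolClosed P B) {v : G} {k : ℕ} (hv : v ∈ Subgroup.zpowers x)
    (ho : orderOf v = 2 ^ (k + 2)) (d : G) (hd : d * v * d⁻¹ ∈ (P : Subgroup G)) :
    Nat.card ↥((P : Subgroup G) ⊓ Subgroup.centralizer {d * v * d⁻¹}) ≤
      Nat.card ↥((P : Subgroup G) ⊓ Subgroup.centralizer {v}) := by
  obtain ⟨w, hw, u, hu, e⟩ := h.pair.split hd
  have hw2 := h.sq_ne (h.image_form IB (h.C_le hv) ho hw hu e).1
  rw [e]
  refine le_trans ?_ (Nat.card_le_card_of_injective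
    (fun q : Subgroup.zpowers x × A => (⟨(q.1 : G) * q.2,
      h.pair.mul_mem' (h.C_le q.1.2) q.2.2, Subgroup.mem_centralizer_singleton_iff.2
        ((h.C_comm q.1.2 hv).mul_left (h.pair.comm v (h.C_le hv) q.2 q.2.2).symm).eq⟩ :
      ↥((P : Subgroup G) ⊓ Subgroup.centralizer {v}))) fun q q' hq => ?_)
  · rw [Nat.card_prod]
    refine le_trans ?_ (Nat.mul_le_mul_right _ (h.card_centralizer_le hw hw2))
    rw [← Nat.card_coe_set_eq {w' : G | w' ∈ B ∧ Commute w' w}, ← Nat.card_prod]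
    have key : ∀ p : ↥((P : Subgroup G) ⊓ Subgroup.centralizer ({w * u} : Set G)),
        ∃ q : {w' : G | w' ∈ B ∧ Commute w' w} × A, (p : G) = (q.1 : G) * q.2 := fun p => by
      obtain ⟨w', hw', u', hu', e'⟩ := h.pair.split p.2.1
      have hc : Commute (p : G) (w * u) := Subgroup.mem_centralizer_singleton_iff.1 p.2.2
      rw [e'] at hc
      exact ⟨(⟨w', hw', ((h.pair.commute_iff hw' hu' hw hu).1 hc).1⟩, ⟨u', hu'⟩), e'⟩
    choose f hf using key
    exact Nat.card_le_card_of_injective f fun p p' hp => Subtype.ext (by rw [hf, hf, hp])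
  · obtain ⟨h1, h2⟩ := h.pair.uniq (h.C_le q.1.2) (h.C_le q'.1.2) q.2.2 q'.2.2 (congrArg Subtype.val hq)
    exact Prod.ext (Subtype.ext h1) (Subtype.ext h2)

section Closure

variable (IA : InvolClosed P A) (IB : InvolClosed P B) (F : Other A) {g₀ : G}
  (h₀A : ∀ u ∈ A, g₀ * u * g₀⁻¹ ∈ (P : Subgroup G))
  (h₀t : g₀ * (x * y) * g₀⁻¹ ∈ Subgroup.zpowers x)
include IA IB F

/-- A conjugate in the cyclic subgroup has no involution of `A` as a component. -/
theorem core {v w u g : G} {k : ℕ} (hk : k + 2 < n) (hv : v ∈ Subgroup.zpowers x)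
    (ho : orderOf v = 2 ^ (k + 2)) (hw : w ∈ Subgroup.zpowers x) (hwo : orderOf w = 2 ^ (k + 2))
    (hu : u ∈ A) (hu2 : orderOf u = 2) (e : g * v * g⁻¹ = w * u) : False := by
  obtain ⟨u', hu', hu'2, hne, huu'⟩ := F.partner u hu hu2
  have hTz : ∀ t ∈ Subgroup.closure ({u, u', x} : Set G), Commute t (w * u) := fun t ht => by
    refine Subgroup.mem_centralizer_singleton_iff.1 ((Subgroup.closure_le (Subgroup.centralizer {w * u})).2 ?_ ht)
    have hwB := h.C_le hw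
    rintro s (rfl | rfl | rfl) <;> refine Subgroup.mem_centralizer_singleton_iff.2 ?_
    · exact ((h.pair.comm w hwB _ hu).symm.mul_right (Commute.refl _)).eq
    · exact ((h.pair.comm w hwB _ hu').symm.mul_right huu'.symm).eq
    · exact ((h.C_comm (Subgroup.mem_zpowers _) hw).mul_right (h.pair.comm _ h.x_mem u hu)).eq
  obtain ⟨m, hm, hmT⟩ := exists_move_max P (h.pair.leA (h.C_le hv)) (h.max_centralizer IB hv ho) e
    (P.isPGroup'.to_le ((Subgroup.closure_le _).2 (by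
      rintro s (rfl | rfl | rfl)
      exacts [h.pair.leB hu, h.pair.leB hu', h.pair.leA h.x_mem]))) hTz
  have hmu := IA u hu hu2 m (hmT u (Subgroup.subset_closure (by simp)))
  have hmu' := IA u' hu' hu'2 m (hmT u' (Subgroup.subset_closure (by simp)))
  obtain ⟨β, hβ, α, hα, ex⟩ := h.pair.split (hmT x (Subgroup.subset_closure (by simp)))
  have hc : ∀ {q : G}, q ∈ A → m * q * m⁻¹ ∈ A → Commute α (m * q * m⁻¹) := fun {q} hq hmq => by
    have h1 := commute_conj m (h.pair.comm x h.x_mem q hq)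
    rw [ex, show m * q * m⁻¹ = 1 * (m * q * m⁻¹) from (one_mul _).symm] at h1
    simpa using ((h.pair.commute_iff hβ hα (one_mem B) hmq).1 h1).2
  have hα2 := F.two α hα _ hmu _ hmu' (by rw [orderOf_conj, hu2]) (by rw [orderOf_conj, hu'2])
    (fun e' => hne (mul_left_cancel (mul_right_cancel e')).symm) (commute_conj m huu') (hc hu hmu)
    (hc hu' hmu')
  obtain ⟨i, rfl⟩ := Subgroup.mem_zpowers_iff.1 hw
  obtain ⟨j, rfl⟩ := h.even_of_low (i := i) (orderOf_dvd_iff_pow_eq_one.1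
    (hwo ▸ Nat.pow_dvd_pow 2 (by omega)))
  have hmw : m * x ^ (2 * j) * m⁻¹ = β ^ (2 * j) := by
    rw [← conj_zpow, ex, (h.pair.comm β hβ α hα).mul_zpow, zpow_mul α, zpow_two, hα2, one_zpow,
      mul_one]
  rw [conj_mul', hmw] at hm
  obtain ⟨-, h1⟩ := h.pair.uniq (zpow_mem hβ _) (h.C_le hv) hmu (one_mem A) (by rw [hm, mul_one])
  exact Invol.ne_one_of_orderOf_two hu2 (conj_eq_one_iff.1 h1)

include h₀A h₀t

/-- Elements of order four outside the cyclic subgroup move into it, preserving the involutions of `A`. -/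
theorem move_to_C {w : G} (hw : w ∈ B) (hC : w ∉ Subgroup.zpowers x) (h2 : w * w ≠ 1) :
    ∃ g : G, (∀ u ∈ A, orderOf u = 2 → g * u * g⁻¹ ∈ A) ∧ g * w * g⁻¹ ∈ Subgroup.zpowers x := by
  obtain ⟨-, p, hp, e⟩ := h.four_conj hw hC h2
  refine ⟨g₀ * p, fun u hu hu2 => IA u hu hu2 _ ?_, ?_⟩
  · rw [show g₀ * p * u * (g₀ * p)⁻¹ = g₀ * (p * u * p⁻¹) * g₀⁻¹ by group,
      (h.pair.comm p hp u hu).eq, mul_inv_cancel_right]
    exact h₀A u hu
  · rw [show g₀ * p * w * (g₀ * p)⁻¹ = g₀ * (p * w * p⁻¹) * g₀⁻¹ by group, e]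
    exact h₀t

/-- The second component of an image of a low element is trivial once it squares to one. -/
theorem low_of_sq {k : ℕ} (hk : k + 2 < n) {v w u g : G} (hv : v ∈ Subgroup.zpowers x)
    (ho : orderOf v = 2 ^ (k + 2)) (hw : w ∈ B) (hu : u ∈ A) (e : g * v * g⁻¹ = w * u)
    (hu2 : u * u = 1) : g * v * g⁻¹ ∈ B := by
  obtain ⟨hwo, -⟩ := h.image_form IB (h.C_le hv) ho hw hu e
  rw [e]
  by_cases hu1 : u = 1
  · rw [hu1, mul_one]; exact hw
  exfalso
  by_cases hC : w ∈ Subgroup.zpowers x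
  · exact h.core IA IB F hk hv ho hC hwo hu (orderOf_two hu2 hu1) e
  obtain ⟨g', hA, hC'⟩ := h.move_to_C IA IB F h₀A h₀t hw hC (h.sq_ne hwo)
  refine h.core IA IB F hk hv ho hC' (by rw [orderOf_conj, hwo]) (hA u hu (orderOf_two hu2 hu1))
    (by rw [orderOf_conj, orderOf_two hu2 hu1]) (g := g' * g) ?_
  rw [show g' * g * v * (g' * g)⁻¹ = g' * (g * v * g⁻¹) * g'⁻¹ by group, e, conj_mul']

/-- Elements of the cyclic subgroup of order less than `2 ^ n` are not fused out of `B`. -/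
theorem low : ∀ k : ℕ, k + 2 < n → ∀ v ∈ Subgroup.zpowers x, orderOf v = 2 ^ (k + 2) → ∀ g : G,
    g * v * g⁻¹ ∈ (P : Subgroup G) → g * v * g⁻¹ ∈ B := by
  haveI : Fact (Nat.Prime 2) := ⟨Nat.prime_two⟩
  intro k
  induction k with
  | zero =>
    intro hk v hv ho g hg
    obtain ⟨w, hw, u, hu, e⟩ := h.pair.split hg
    exact h.low_of_sq IA IB F h₀A h₀t hk hv ho hw hu e
      (by simpa [pow_two] using (h.image_form IB (h.C_le hv) ho hw hu e).2)
  | succ k ih =>
    intro hk v hv ho g hg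
    obtain ⟨w, hw, u, hu, e⟩ := h.pair.split hg
    refine h.low_of_sq IA IB F h₀A h₀t hk hv ho hw hu e ?_
    have hsq : orderOf (v ^ (2 ^ 1)) = 2 ^ (k + 2) := orderOf_pow_two_pow (by rw [ho]; ring_nf)
    rw [pow_one, pow_two] at hsq
    have hm := ih (by omega) _ (mul_mem hv hv) hsq g (by
      rw [conj_mul', e]; exact mul_mem (h.pair.mul_mem' hw hu) (h.pair.mul_mem' hw hu))
    rw [conj_mul', e, h.pair.sq hw hu] at hm
    refine h.pair.eq_one_of_mem ?_ (mul_mem hu hu)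
    have := mul_mem (inv_mem (mul_mem hw hw)) hm
    rwa [inv_mul_cancel_left] at this

theorem four_closed {v : G} (hv : v ∈ B) (ho : orderOf v = 4) (g : G)
    (hg : g * v * g⁻¹ ∈ (P : Subgroup G)) : g * v * g⁻¹ ∈ B := by
  have hn := h.hn
  by_cases hC : v ∈ Subgroup.zpowers x
  · exact h.low IA IB F h₀A h₀t 0 (by omega) v hC (by rw [ho]; norm_num) g hg
  obtain ⟨g', -, hC'⟩ := h.move_to_C IA IB F h₀A h₀t hv hC (h.sq_ne (k := 0) (by rw [ho]; norm_num))
  have e : g * v * g⁻¹ = g * g'⁻¹ * (g' * v * g'⁻¹) * (g * g'⁻¹)⁻¹ := by group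
  rw [e] at hg ⊢
  exact h.low IA IB F h₀A h₀t 0 (by omega) _ hC' (by rw [orderOf_conj, ho]; norm_num) _ hg

/-- An element taking `B` into the Sylow subgroup normalizes it. -/
theorem conj_mem {g : G} (hg : ∀ w ∈ B, g * w * g⁻¹ ∈ (P : Subgroup G)) {w : G} (hw : w ∈ B) :
    g * w * g⁻¹ ∈ B :=
  h.mem_of_gens (H := B.comap (MulAut.conj g).toMonoidHom) (IB y h.y_mem h.oy g (hg y h.y_mem))
    (h.four_closed IA IB F h₀A h₀t h.xy_mem h.xy_ord g (hg _ h.xy_mem)) hw

/-- The quasi-dihedral factor is strongly closed. -/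
theorem stronglyClosed (hAn : ∀ g : G, (∀ u ∈ A, g * u * g⁻¹ ∈ (P : Subgroup G)) →
      ∀ u ∈ A, g * u * g⁻¹ ∈ A)
    (hmove : ∀ u ∈ A, orderOf u = 2 → ∃ d : G, (∀ w ∈ B, d * w * d⁻¹ ∈ (P : Subgroup G)) ∧
      d * u * d⁻¹ ∈ A ∧ ∀ α ∈ A, Commute α (d * u * d⁻¹)) :
    IsStronglyClosed B (P : Subgroup G) := by
  haveI : Fact (Nat.Prime 2) := ⟨Nat.prime_two⟩
  refine ⟨h.pair.leA, fun v hv g hg => ?_⟩
  by_cases hv1 : v = 1
  · rw [hv1, mul_one, mul_inv_cancel]; exact one_mem B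
  by_cases hv2 : v * v = 1
  · exact IB v hv (orderOf_two hv2 hv1) g hg
  by_cases hC : v ∈ Subgroup.zpowers x
  swap
  · exact h.four_closed IA IB F h₀A h₀t hv (h.four_conj hv hC hv2).1 g hg
  obtain ⟨j, hjn, hj⟩ := (Nat.dvd_prime_pow Nat.prime_two).1 (h.ox ▸ by
    obtain ⟨i, rfl⟩ := Subgroup.mem_zpowers_iff.1 hC
    exact orderOf_dvd_of_mem_zpowers (zpow_mem (Subgroup.mem_zpowers x) i) :
      orderOf v ∣ 2 ^ n)
  obtain ⟨k, rfl⟩ : ∃ k, j = k + 2 := by
    rcases j with _ | _ | i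
    · rw [pow_zero, orderOf_eq_one_iff] at hj; exact absurd hj hv1
    · exact absurd (mul_self_two (x := v) (by simpa using hj)) hv2
    · exact ⟨i, rfl⟩
  rcases Nat.lt_or_ge (k + 2) n with hlt | hge
  · exact h.low IA IB F h₀A h₀t k hlt v hC hj g hg
  obtain rfl : n = k + 2 := le_antisymm hge hjn
  obtain ⟨w, hw, u, hu, e⟩ := h.pair.split hg
  obtain ⟨hwo, -⟩ := h.image_form IB hv hj hw hu e
  obtain ⟨l, rfl⟩ : ∃ l, k = l + 1 := ⟨k - 1, by have := h.hn; omega⟩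
  have hu2 : u * u = 1 := by
    have hsq : orderOf (v ^ (2 ^ 1)) = 2 ^ (l + 2) := orderOf_pow_two_pow (by rw [hj]; ring_nf)
    rw [pow_one, pow_two] at hsq
    have hm := h.low IA IB F h₀A h₀t l (by omega) _ (mul_mem hC hC) hsq g (by
      rw [conj_mul', e]; exact mul_mem (h.pair.mul_mem' hw hu) (h.pair.mul_mem' hw hu))
    rw [conj_mul', e, h.pair.sq hw hu] at hm
    refine h.pair.eq_one_of_mem ?_ (mul_mem hu hu)
    have := mul_mem (inv_mem (mul_mem hw hw)) hm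
    rwa [inv_mul_cancel_left] at this
  rw [e]
  by_cases hu1 : u = 1
  · rw [hu1, mul_one]; exact hw
  exfalso
  obtain ⟨d, hdB, hduA, hduc⟩ := hmove u hu (orderOf_two hu2 hu1)
  set u₁ := d * u * d⁻¹ with hu₁
  set w₁ := d * w * d⁻¹ with hw₁
  have hw₁B : w₁ ∈ B := h.conj_mem IA IB F h₀A h₀t hdB hw
  have hw₁o : orderOf w₁ = 2 ^ (l + 1 + 2) := by rw [hw₁, orderOf_conj, hwo]
  have hw₁C := h.mem_C_of_order hw₁B hw₁o
  have hgen : ∀ {q : G}, q ∈ Subgroup.zpowers x → orderOf q = 2 ^ (l + 1 + 2) →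
      Subgroup.zpowers q = Subgroup.zpowers x := fun {q} hq ho =>
    Subgroup.eq_of_le_of_card_ge (Subgroup.zpowers_le.2 hq)
      (by rw [Nat.card_zpowers, Nat.card_zpowers, ho, h.ox])
  set T := Subgroup.zpowers x ⊔ A with hT
  have hTP : T ≤ (P : Subgroup G) := sup_le (h.C_le.trans h.pair.leA) h.pair.leB
  have hTc : ∀ t ∈ T, Commute t (w₁ * u₁) := fun t ht => by
    obtain ⟨c, hc, α, hα, rfl⟩ := h.pair.mem_sup h.C_le ht
    exact (h.pair.commute_iff (h.C_le hc) hα hw₁B hduA).2 ⟨h.C_comm hc hw₁C, hduc α hα⟩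
  obtain ⟨m, hm, hmT⟩ := exists_move_max P (h.pair.leA hv) (h.max_centralizer IB hC hj)
    (g := d * g) (z := w₁ * u₁)
    (by rw [show d * g * v * (d * g)⁻¹ = d * (g * v * g⁻¹) * d⁻¹ by group, e, conj_mul'])
    (P.isPGroup'.to_le hTP) hTc
  have hmA : ∀ α ∈ A, m * α * m⁻¹ ∈ A :=
    hAn m fun α hα => hmT α (Subgroup.mem_sup_right hα)
  have hmN : m ∈ Subgroup.normalizer (A : Set G) := BS.mem_normalizer_of_conj_le hmA
  set e₀ : ℤ := 2 * qq (l + 1 + 2) - 1 with he₀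
  have hye : ∀ {q : G}, q ∈ Subgroup.zpowers x → y * q * y⁻¹ = q ^ e₀ := fun {q} hq => by
    obtain ⟨i, rfl⟩ := Subgroup.mem_zpowers_iff.1 hq
    rw [h.y_zpow i, mul_inv_cancel_right, he₀, ← zpow_mul]
  -- `m y m⁻¹` acts on `C A` as `y` does
  set c := y⁻¹ * (m * y * m⁻¹) with hc
  have hcA : ∀ α ∈ A, Commute c α := fun α hα => by
    have hα' : m⁻¹ * α * m ∈ A := (Subgroup.mem_normalizer_iff''.1 hmN α).1 hα
    have h1 := commute_conj m (h.pair.comm y h.y_mem _ hα')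
    rw [show m * (m⁻¹ * α * m) * m⁻¹ = α by group] at h1
    exact (h.pair.comm y h.y_mem α hα).inv_left.mul_left h1
  have hcv : Commute c v := by
    have h1 : m * y * m⁻¹ * v * (m * y * m⁻¹)⁻¹ = v ^ e₀ := by
      have h2 : y * (w₁ * u₁) * y⁻¹ = (w₁ * u₁) ^ e₀ := by
        rw [conj_mul', hye hw₁C, (h.pair.comm y h.y_mem u₁ hduA).eq, mul_inv_cancel_right,
          (h.pair.comm w₁ hw₁B u₁ hduA).mul_zpow]
        congr 1
        have h3 : u₁ * u₁ = 1 := by
          rw [hu₁, ← conj_mul', hu2, mul_one, mul_inv_cancel]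
        rw [he₀, zpow_sub, zpow_mul, zpow_two, h3, one_zpow, one_mul, zpow_one,
          inv_eq_of_mul_eq_one_right h3]
      calc m * y * m⁻¹ * v * (m * y * m⁻¹)⁻¹ = m * (y * (m⁻¹ * v * m) * y⁻¹) * m⁻¹ := by group
        _ = m * ((w₁ * u₁) ^ e₀) * m⁻¹ := by
            rw [show m⁻¹ * v * m = w₁ * u₁ by rw [← hm]; group, h2]
        _ = v ^ e₀ := by rw [← conj_zpow, hm]
    have h4 : c * v * c⁻¹ = v := by
      rw [hc, show y⁻¹ * (m * y * m⁻¹) * v * (y⁻¹ * (m * y * m⁻¹))⁻¹ =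
        y⁻¹ * (m * y * m⁻¹ * v * (m * y * m⁻¹)⁻¹) * y by group, h1, ← hye hC]
      group
    exact mul_inv_eq_iff_eq_mul.1 h4
  set H := Subgroup.centralizer (T : Set G) ⊔ (P : Subgroup G) with hH
  have hHC : H ≤ Subgroup.normalizer (Subgroup.zpowers x : Set G) := by
    refine sup_le (fun q hq => BS.mem_normalizer_of_conj_le fun r hr => ?_) fun q hq =>
      BS.mem_normalizer_of_conj_le fun r hr => h.conj_C hq hr
    rw [← Subgroup.mem_centralizer_iff.1 hq r (Subgroup.mem_sup_left hr), mul_inv_cancel_right]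
    exact hr
  have hcH : c ∈ H := Subgroup.mem_sup_left (Subgroup.mem_centralizer_iff.2 fun t ht => by
    obtain ⟨q, hq, α, hα, rfl⟩ := h.pair.mem_sup h.C_le ht
    obtain ⟨i, rfl⟩ := Subgroup.mem_zpowers_iff.1 ((hgen hC hj).symm ▸ hq)
    exact ((hcv.zpow_right i).mul_right (hcA α hα)).symm.eq)
  have hPH : (P : Subgroup G) ≤ H := le_sup_right
  have hmP : (P : Subgroup G).map (MulAut.conj m).toMonoidHom ≤ H := by
    rw [Subgroup.map_le_iff_le_comap, ← h.pair.sup]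
    refine sup_le (h.mem_of_gens ?_ ?_) fun α hα => hPH (h.pair.leB (hmA α hα))
    all_goals
      have hy : m * y * m⁻¹ ∈ H := by
        have := mul_mem (hPH (h.pair.leA h.y_mem)) hcH
        rwa [hc, mul_inv_cancel_left] at this
    · exact hy
    · have hxm : m * x * m⁻¹ ∈ H := by
        obtain ⟨i, hi⟩ := Subgroup.mem_zpowers_iff.1
          ((hgen hw₁C hw₁o).symm ▸ Subgroup.mem_zpowers x)
        rw [← hi, ← conj_zpow]
        refine zpow_mem ?_ i
        rw [show m * w₁ * m⁻¹ = m * (w₁ * u₁) * m⁻¹ * (m * u₁ * m⁻¹)⁻¹ by group, hm]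
        exact mul_mem (hPH (h.pair.leA hv)) (inv_mem (hPH (h.pair.leB (hmA u₁ hduA))))
      show m * (x * y) * m⁻¹ ∈ H
      rw [conj_mul']
      exact mul_mem hxm hy
  obtain ⟨p, hp⟩ := Invol.exists_conj_subset_sylow
    ((P.isPGroup'.map (MulAut.conj m).toMonoidHom).comap_of_injective H.subtype Subtype.val_injective)
    (P.subtype hPH)
  have hmem : ∀ q ∈ (P : Subgroup G), (p : G) * m * q * ((p : G) * m)⁻¹ ∈ (P : Subgroup G) := fun q hq => by
    have h1 := hp ⟨m * q * m⁻¹, hmP ⟨q, hq, rfl⟩⟩ (Subgroup.mem_subgroupOf.2 ⟨q, hq, rfl⟩)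
    have h2 : (p : G) * (m * q * m⁻¹) * (p : G)⁻¹ ∈ (P : Subgroup G) := Subgroup.mem_subgroupOf.1 h1
    rwa [show (p : G) * m * q * ((p : G) * m)⁻¹ = (p : G) * (m * q * m⁻¹) * (p : G)⁻¹ by group]
  have hk1 := h.conj_mem IA IB F h₀A h₀t (fun q hq => hmem q (h.pair.leA hq)) hw₁B
  have hu₁o : orderOf u₁ = 2 := by rw [hu₁, orderOf_conj, orderOf_two hu2 hu1]
  have hk2 := IA u₁ hduA hu₁o _ (hmem u₁ (h.pair.leB hduA))
  have hk3 : (p : G) * v * (p : G)⁻¹ ∈ B :=
    h.C_le ((Subgroup.mem_normalizer_iff.1 (hHC p.2) v).1 hC)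
  obtain ⟨-, h5⟩ := h.pair.uniq hk1 hk3 hk2 (one_mem A) (by
    rw [mul_one, ← conj_mul', ← hm]; group)
  exact Invol.ne_one_of_orderOf_two hu₁o (conj_eq_one_iff.1 h5)

end Closure

end Semi

end Cfsg.Agent.SDFactor
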