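import Cfsg.Agent.Lib.Fus.SDFactor.Mix
import Cfsg.Agent.Lib.Fus.SDFactor.SemiClosed
import Cfsg.Agent.Lib.Transfer.Product.Split.Twist

/-!
# A dihedral factor of order at least eight and a quasi-dihedral one can be chosen strongly closed
-/

set_option autoImplicit false
set_option linter.unusedSectionVars false
set_option linter.style.haveILetI false

namespace Cfsg.Agent.SDFactor

open Cfsg Cfsg.Agent.ProdFus Cfsg.Agent.ProdFus.Split

universe u

variable {G : Type u} [Group G] [Finite G]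

/-- Membership in the product of a subgroup of one factor with the other factor. -/
theorem mem_sup_factor {P : Sylow 2 G} {A B M : Subgroup G} (hp : Pair P A B) (hM : M ≤ A) {u v : G}
    (hu : u ∈ A) (hv : v ∈ B) : u * v ∈ M ⊔ B ↔ u ∈ M := by
  refine ⟨fun hx => ?_, fun hx => Subgroup.mul_mem_sup hx hv⟩
  obtain ⟨c, hc, d, hd, e⟩ := hp.mem_sup hM hx
  exact (hp.uniq hu (hM hc) hv hd e).1 ▸ hc

/-- A subgroup of index two of one factor times the other factor. -/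
theorem sup_relIndex_two {P : Sylow 2 G} {A B M : Subgroup G} (hp : Pair P A B) (hM : M ≤ A)
    (hi : M.relIndex A = 2) : (M ⊔ B).relIndex (P : Subgroup G) = 2 := by
  obtain ⟨t, ht⟩ := Subgroup.index_eq_two_iff.1 hi
  rw [Subgroup.relIndex, Subgroup.index_eq_two_iff]
  refine ⟨⟨(t : G), hp.leA t.2⟩, fun b => ?_⟩
  obtain ⟨u, hu, v, hv, e⟩ := hp.split b.2
  have := ht ⟨u, hu⟩
  simp only [Subgroup.mem_subgroupOf, Subgroup.coe_mul] at this ⊢
  rwa [e, mul_assoc, ← (hp.comm _ t.2 v hv).eq, ← mul_assoc, mem_sup_factor hp hM (mul_mem hu t.2) hv,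
    mem_sup_factor hp hM hu hv]

/-- The second twist: an element of order four outside the cyclic subgroup of the quasi-dihedral factor
moves into it, taking the other factor into the Sylow subgroup. -/
theorem exists_moved (h2 : ∀ H : Subgroup G, H.Normal → H.index ≠ 2) {P : Sylow 2 G} {B A : Subgroup G}
    {n : ℕ} {x y b : G} (h : Semi P B A n x y b) (IA : InvolClosed P A) (IB : InvolClosed P B)
    (hAn : ∀ g : G, (∀ u ∈ A, g * u * g⁻¹ ∈ (P : Subgroup G)) → ∀ u ∈ A, g * u * g⁻¹ ∈ A) :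
    ∃ (B' : Subgroup G) (x' y' g₀ : G), Semi P B' A n x' y' b ∧ InvolClosed P B' ∧
      (∀ v ∈ B', orderOf v = 2 → v ∈ B) ∧ (∀ u ∈ A, g₀ * u * g₀⁻¹ ∈ (P : Subgroup G)) ∧
      g₀ * (x' * y') * g₀⁻¹ ∈ Subgroup.zpowers x' := by
  haveI : Fact (Nat.Prime 2) := ⟨Nat.prime_two⟩
  set t := x * y with ht
  have htB : t ∈ B := h.xy_mem
  set T := A ⊔ Subgroup.zpowers t with hT
  have hTP : T ≤ (P : Subgroup G) :=
    sup_le h.pair.leB (Subgroup.zpowers_le.2 (h.pair.leA htB))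
  have hTt : ∀ w ∈ T, Commute w t := fun w hw => by
    refine Subgroup.mem_centralizer_singleton_iff.1 ((sup_le ?_ ?_ : T ≤ Subgroup.centralizer {t}) hw)
    · exact fun u hu => Subgroup.mem_centralizer_singleton_iff.2 (h.pair.comm t htB u hu).symm.eq
    · exact Subgroup.zpowers_le.2 (Subgroup.mem_centralizer_singleton_iff.2 rfl)
  have hmem : ∀ {g : G}, ∀ w : G, (w = 1 ∨ w = b) → g * w * g⁻¹ ∈ (P : Subgroup G) →
      g * w * g⁻¹ ∈ h.mainSub := by
    rintro g w (rfl | rfl) hg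
    · simp
    · exact h.invol_mem_mainSub (IB w h.b_mem h.b_ord g hg)
        (by rw [← conj_mul', h.b_sq, mul_one, mul_inv_cancel])
  obtain ⟨g, hgT, hgM⟩ := exists_move_pow h2 P (sup_relIndex_two h.pair h.mainSub_le h.index_mainSub)
    (x := t) ⟨2, by rw [ht, h.xy_ord]; norm_num⟩
    (fun g i hi hg => by
      obtain ⟨j, rfl⟩ := hi
      refine Subgroup.mem_sup_left (hmem _ ?_ hg)
      rw [pow_mul, pow_two, ht, h.xy_sq]
      rcases Nat.even_or_odd' j with ⟨k, rfl | rfl⟩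
      · exact .inl (by rw [pow_mul, pow_two, h.b_sq, one_pow])
      · exact .inr (by rw [pow_succ, pow_mul, pow_two, h.b_sq, one_pow, one_mul]))
    (P.isPGroup'.to_le hTP) hTt
  have hgA : ∀ u ∈ A, g * u * g⁻¹ ∈ A :=
    hAn g fun u hu => hgT u (Subgroup.mem_sup_left hu)
  have hgN : g ∈ Subgroup.normalizer (A : Set G) := BS.mem_normalizer_of_conj_le hgA
  obtain ⟨β, hβ, α, hα, e⟩ := h.pair.mem_sup h.mainSub_le hgM
  have hβB := h.mainSub_le hβ
  have hbm : g * b * g⁻¹ ∈ B := h.mainSub_le (hmem b (.inr rfl) (by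
    rw [← h.xy_sq, conj_mul', ← ht, e]
    exact mul_mem (h.pair.mul_mem' hβB hα) (h.pair.mul_mem' hβB hα)))
  obtain ⟨e1, e2⟩ := h.pair.uniq hbm (mul_mem hβB hβB) (one_mem A) (mul_mem hα hα)
    (by rw [mul_one, ← h.pair.sq hβB hα, ← e, ← conj_mul', ht, h.xy_sq])
  have hβC := h.mainSub_C hβ fun e3 => h.b_ne (conj_eq_one_iff.1 (e1.trans e3))
  have hαc : ∀ u ∈ A, Commute u α := fun u hu => by
    have hu' : g⁻¹ * u * g ∈ A := (Subgroup.mem_normalizer_iff''.1 hgN u).1 hu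
    have h1 := commute_conj g (h.pair.comm t htB _ hu').symm
    rw [e, show g * (g⁻¹ * u * g) * g⁻¹ = 1 * u by group] at h1
    exact ((h.pair.commute_iff (one_mem B) hu hβB hα).1 h1).2
  set α' := g⁻¹ * α * g with hα'
  have hα'A : α' ∈ A := (Subgroup.mem_normalizer_iff''.1 hgN α).1 hα
  have hα'2 : α' * α' = 1 := by
    rw [hα', show g⁻¹ * α * g * (g⁻¹ * α * g) = g⁻¹ * (α * α) * g by group, ← e2]
    group
  have hα'c : ∀ u ∈ A, Commute u α' := fun u hu => by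
    have := commute_conj g⁻¹ (hαc _ (hgA u hu))
    simpa [hα', mul_assoc] using this
  obtain ⟨B', x', y', hS, hsub, -, hx, hy, -⟩ :=
    h.exists_twist h.index_mainSub (h.invol_mem_mainSub h.b_mem h.b_sq) hα'A hα'2 hα'c
  have hyM : y ∈ h.mainSub := h.invol_mem_mainSub h.y_mem h.y_sq
  have hxM : x ∉ h.mainSub := fun hx' => h.xy_not_mainSub (mul_mem hx' hyM)
  rw [hy hyM] at hS
  rw [hx hxM] at hS
  have hpow : ∀ k : ℤ, (x * α') ^ (k * 2) = x ^ (k * 2) := fun k => by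
    rw [(h.pair.comm x h.x_mem α' hα'A).mul_zpow, mul_comm k, zpow_mul α', zpow_two, hα'2, one_zpow,
      mul_one]
  have hold : ∀ v ∈ B', v * v = 1 → v ∈ B := fun v hv hv2 => by
    obtain ⟨k, rfl | rfl⟩ := hS.mem_mainSub.1 (hS.invol_mem_mainSub hv hv2)
    · rw [hpow]; exact h.zmem _
    · rw [hpow]; exact h.ymem _
  refine ⟨B', x * α', y, g, hS, fun v hv hv2 d hd => ?_, fun v hv hv2 => hold v hv (mul_self_two hv2),
    fun u hu => hgT u (Subgroup.mem_sup_left hu), ?_⟩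
  · have hvB := hold v hv (mul_self_two hv2)
    have h1 := IB v hvB hv2 d hd
    exact hsub _ h1 (h.invol_mem_mainSub h1 (by
      rw [← conj_mul', mul_self_two hv2, mul_one, mul_inv_cancel]))
  · have e3 : g * (x * α' * y) * g⁻¹ = β := by
      rw [mul_assoc x, ← (h.pair.comm y h.y_mem α' hα'A).eq, ← mul_assoc x, conj_mul', ← ht, e, hα',
        show g * (g⁻¹ * α * g) * g⁻¹ = α by group, mul_assoc, ← e2, mul_one]
    rw [e3]
    obtain ⟨k, hk | hk⟩ := h.mem_mainSub.1 hβ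
    · exact Subgroup.mem_zpowers_iff.2 ⟨k * 2, by rw [hpow, hk]⟩
    · exact absurd (hk ▸ hβC) (h.not_C _)

/-- A big dihedral factor and a quasi-dihedral factor can be chosen strongly closed. -/
theorem exists_prod_of_big (h2 : ∀ H : Subgroup G, H.Normal → H.index ≠ 2) {P : Sylow 2 G}
    {A B R : Subgroup G} {r s a : G} {m : ℕ} (hm : 2 ∣ m) (hA : Big P A B R r s a)
    (e : A ≃* DihedralGroup m) (hB : Cfsg.IsQuasiDihedral B) :
    ∃ A' B' : Subgroup G, Prod P A' B' ∧ (∃ (R' : Subgroup G) (r' s' : G), Big P A' B' R' r' s' a ∧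
        ∀ u ∈ A', orderOf u = 2 → IsConj u a) ∧
      Nonempty (A' ≃* DihedralGroup m) ∧ Cfsg.IsQuasiDihedral B' := by
  obtain ⟨n, x, y, b, hS⟩ := exists_semi hA.pair.swap hB
  -- the first twists
  obtain ⟨A₁, R₁, r₁, s₁, hA₁, ⟨eA⟩, IA⟩ := hA.exists_twist hm e (Subgroup.zpowers b)
    (Subgroup.zpowers_le.2 hS.b_mem)
    (fun z hz v hv => by
      obtain ⟨i, rfl⟩ := Subgroup.mem_zpowers_iff.1 hz
      exact (hS.b_central v hv).zpow_right i)
    (fun z hz => by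
      obtain ⟨i, rfl⟩ := Subgroup.mem_zpowers_iff.1 hz
      rw [← (Commute.refl b).mul_zpow, hS.b_sq, one_zpow])
    fun v hv hR => by
      obtain ⟨u, hu, hc⟩ := (Mix.mk (Fac.of_big hA) (Fac.of_semi hS)).exists_class h2 hv
        (orderOf_two (hA.dih.sq_of_not_mem hv hR) fun e1 => hR (e1 ▸ one_mem R))
        fun e1 => hR (e1 ▸ hA.dih.a_mem)
      rcases hu with rfl | rfl
      · exact ⟨1, one_mem _, hc⟩
      · exact ⟨_, Subgroup.mem_zpowers _, hc⟩
  have hS₁ : Semi P B A₁ n x y b := { hS with pair := hA₁.pair.swap }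
  obtain ⟨u, hu, hyu⟩ := (Mix.mk (Fac.of_big hA₁) (Fac.of_semi hS₁)).symm.exists_class h2 hS₁.y_mem
    hS₁.oy fun e1 => hS₁.y_not_C (e1 ▸ hS₁.b_zpow)
  have hu' : u ∈ A₁ ∧ u * u = 1 ∧ ∀ z ∈ A₁, Commute z u := by
    rcases hu with rfl | rfl
    · exact ⟨one_mem _, one_mul 1, fun z _ => Commute.one_right z⟩
    · exact ⟨hA₁.a_mem, mul_self_two hA₁.dih.a_ord, hA₁.dih.a_central⟩
  obtain ⟨B₁, x₁, y₁, hS₂, -, hx₁, -, -, hy₁⟩ :=
    hS₁.exists_twist hS₁.index_C hS₁.b_zpow hu'.1 hu'.2.1 hu'.2.2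
  rw [hx₁ (Subgroup.mem_zpowers x), hy₁ hS₁.y_not_C] at hS₂
  have IB : ∀ v ∈ B₁, orderOf v = 2 → IsConj v b := fun v hv hv2 => by
    rcases hS₂.invol_cases hv hv2 with rfl | ⟨-, p, -, e1⟩
    · exact IsConj.refl _
    · exact (isConj_iff.2 ⟨p, e1⟩).trans hyu
  have hA₂ : Big P A₁ B₁ R₁ r₁ s₁ a :=
    { pair := hS₂.pair.swap, dih := hA₁.dih, four := hA₁.four, gens := hA₁.gens }
  have T₂ := Mix.mk (Fac.of_big hA₂) (Fac.of_semi hS₂)
  have ICA := T₂.involClosed h2 IA IB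
  have ICB := T₂.symm.involClosed h2 IB IA
  have hAn : ∀ g : G, (∀ w ∈ A₁, g * w * g⁻¹ ∈ (P : Subgroup G)) → ∀ w ∈ A₁, g * w * g⁻¹ ∈ A₁ :=
    fun g hg w hw => conj_mem_of_closed ICA hA₁.gens hg hw
  -- the second twist
  obtain ⟨B₂, x₂, y₂, g₀, hS₃, ICB₂, hinv, h₀A, h₀t⟩ := exists_moved h2 hS₂ ICA ICB hAn
  have hA₃ : Big P A₁ B₂ R₁ r₁ s₁ a :=
    { pair := hS₃.pair.swap, dih := hA₁.dih, four := hA₁.four, gens := hA₁.gens }
  have IB₂ : ∀ v ∈ B₂, orderOf v = 2 → IsConj v b := fun v hv hv2 => IB v (hinv v hv hv2) hv2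
  have T₃ := Mix.mk (Fac.of_big hA₃) (Fac.of_semi hS₃)
  have F : Other A₁ := by
    refine ⟨fun α hα v hv w hw hv2 hw2 hne _ c₁ c₂ => ?_, fun v hv hv2 => ?_⟩
    · have key : ∀ {z : G}, z ∈ A₁ → orderOf z = 2 → z ∉ R₁ → Commute α z → α * α = 1 := by
        intro z hz hz2 hzR hc
        rcases hA₃.centralizer_cases hz hzR hα hc.symm with e1 | e1 | e1 | e1 <;> rw [e1]
        · exact one_mul 1
        · exact mul_self_two hA₃.dih.a_ord
        · exact mul_self_two hz2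
        · rw [(hA₃.dih.a_central z hz).mul_mul_mul_comm, mul_self_two hA₃.dih.a_ord,
            mul_self_two hz2, one_mul]
      by_cases hvR : v ∈ R₁
      · refine key hw hw2 (fun hwR => hne (hA₃.dih.unique_invol hvR hwR hv2 hw2)) c₂
      · exact key hv hv2 hvR c₁
    · by_cases hva : v = a
      · exact ⟨s₁, hA₃.dih.s_mem, orderOf_two hA₃.dih.s_sq fun e1 => hA₃.dih.s_not (e1 ▸ one_mem _),
          fun e1 => hA₃.dih.s_not (e1 ▸ hva ▸ hA₃.dih.a_mem),
          hva ▸ (hA₃.dih.a_central _ hA₃.dih.s_mem).symm⟩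
      · exact ⟨a, hA₃.a_mem, hA₃.dih.a_ord, Ne.symm hva, hA₃.dih.a_central v hv⟩
  have hclB := hS₃.stronglyClosed ICA ICB₂ F h₀A h₀t hAn fun v hv hv2 => by
    by_cases hva : v = a
    · refine ⟨1, fun w hw => by simpa using hS₃.pair.leA hw, ?_, fun α hα => ?_⟩
      · simpa using hv
      · simpa [hva] using hA₃.dih.a_central α hα
    · obtain ⟨d, hd, -, ed⟩ := T₃.refl_to_a h2 IA hv hv2 hva
      exact ⟨d, hd, ed ▸ hA₃.a_mem, fun α hα => ed ▸ hA₃.dih.a_central α hα⟩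
  have hclA := hA₃.stronglyClosed_of_norm ICA
    (fun g hg w hw => hS₃.conj_mem ICA ICB₂ F h₀A h₀t hg hw) ?_ ?_ ?_
  · exact ⟨A₁, B₂, ⟨hclA, hclB, hA₃.pair.comm, hA₃.pair.disj, hA₃.pair.sup⟩,
      ⟨R₁, r₁, s₁, hA₃, IA⟩, ⟨eA⟩, hS₃.quasiDihedral⟩
  · intro v hv hv2 w hw
    have hroot : v ^ (orderOf v / 2) = 1 ∨ v ^ (orderOf v / 2) = b := by
      by_cases hC : v ∈ Subgroup.zpowers x₂
      · refine hS₃.C_invol (pow_mem hC _) ?_
        rw [← pow_add]
        refine orderOf_dvd_iff_pow_eq_one.1 ?_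
        haveI : Fact (Nat.Prime 2) := ⟨Nat.prime_two⟩
        obtain ⟨k, hk⟩ := IsPGroup.iff_orderOf.1 P.isPGroup' ⟨v, hS₃.pair.leA hv⟩
        rw [Subgroup.orderOf_mk] at hk
        rcases k with _ | k
        · rw [pow_zero, orderOf_eq_one_iff] at hk; exact absurd (by rw [hk, mul_one]) hv2
        · exact ⟨1, by rw [hk, pow_succ, Nat.mul_div_cancel _ two_pos]; ring⟩
      · obtain ⟨h4, -⟩ := hS₃.four_conj hv hC hv2
        rw [h4]
        show v ^ 2 = 1 ∨ v ^ 2 = b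
        rw [pow_two]
        refine hS₃.sq_cases hv ?_
        rw [← pow_two, ← pow_two, ← pow_mul, show 2 * 2 = orderOf v by rw [h4]]
        exact pow_orderOf_eq_one v
    rcases hroot with e1 | e1 <;> rw [e1]
    · exact Commute.one_right w
    · exact hS₃.b_central w hw
  · intro v hv hv2 ⟨w, hw, hwv⟩
    have hv1 : v ≠ 1 := fun e1 => hwv (e1 ▸ Commute.one_right w)
    obtain ⟨d, hd, -, ed⟩ := T₃.symm.refl_to_a h2 IB₂ hv (orderOf_two hv2 hv1)
      fun e1 => hwv (e1 ▸ hS₃.b_central w hw)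
    exact ⟨d, hd, ed ▸ hS₃.b_mem, fun z hz => ed ▸ hS₃.b_central z hz⟩
  · intro d hQ hB'
    have hBc : ∀ z ∈ B₂, (∀ w ∈ B₂, Commute w z) → z * z = 1 := fun z hz hc => by
      rcases hS₃.center_cases hz hc with rfl | rfl
      · exact mul_one 1
      · exact hS₃.b_sq
    set O := {K : Subgroup G | ∃ d : G, (∀ w ∈ R₁ ⊔ B₂, d * w * d⁻¹ ∈ R₁ ⊔ B₂) ∧
      (∀ w ∈ B₂, d * w * d⁻¹ ∈ B₂) ∧ R₁.map (MulAut.conj d).toMonoidHom = K} with hO
    have hR : R₁ = Subgroup.zpowers (r₁ * 1) := by rw [mul_one]; exact hA₃.dih.gen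
    obtain ⟨i, hi, β, hβ, hβ2, hc, ed⟩ := hA₃.image_r hBc hQ hB'
    rcases hS₃.center_cases hβ hc with hβ1 | hβ1
    · rw [ed, hβ1, mul_one]; exact zpow_mem hA₃.r_mem i
    exfalso
    subst hβ1
    have hsub : O ⊆ {R₁, Subgroup.zpowers (r₁ * β)} := by
      rintro K ⟨d', hd'Q, hd'B, rfl⟩
      obtain ⟨i', hi', β', hβ', hb', hc', e'⟩ := hA₃.image_r hBc hd'Q hd'B
      rw [hA₃.map_R hi' hβ' hb' e']
      rcases hS₃.center_cases hβ' hc' with rfl | rfl
      · exact .inl hR.symm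
      · exact .inr rfl
    have hRO : R₁ ∈ O := ⟨1, fun w hw => by simpa using hw, fun w hw => by simpa using hw, by
      refine Subgroup.ext fun w => ?_
      simp [Subgroup.mem_map]⟩
    have hne : R₁ ≠ Subgroup.zpowers (r₁ * β) := fun e1 =>
      hS₃.b_ne (hA₃.line_inj hS₃.b_mem (one_mem B₂) hS₃.b_sq (hR.symm.trans e1)).symm
    have hodd := hA₃.odd_orbit_R
    rw [← hO, hsub.antisymm (Set.insert_subset hRO (Set.singleton_subset_iff.2
      (show Subgroup.zpowers (r₁ * β) ∈ O from ⟨d, hQ, hB', hA₃.map_R hi hβ hβ2 ed⟩))),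
      Set.ncard_pair hne] at hodd
    exact (Nat.not_odd_iff_even.2 even_two) hodd

end Cfsg.Agent.SDFactor
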