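import Cfsg.Agent.Lib.Fus.SDFactor.Semi
import Cfsg.Agent.Lib.Transfer.Product.Split.Central

/-!
# Dihedral and quasi-dihedral factors in one shape

`Fac P A B M a`: `a` is the central involution of the factor `A`, `M` a subgroup of index two of `A` without
other involutions, and every square root of `a` has an abelian centralizer in `A`.
-/

set_option autoImplicit false
set_option linter.unusedSectionVars false
set_option linter.style.haveILetI false

namespace Cfsg.Agent.SDFactor

open Cfsg Cfsg.Agent.ProdFus Cfsg.Agent.ProdFus.Split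

universe u

variable {G : Type u} [Group G] [Finite G]

/-- A factor of the Sylow subgroup with one central involution. -/
structure Fac (P : Sylow 2 G) (A B M : Subgroup G) (a : G) : Prop where
  pair : Pair P A B
  a_mem : a ∈ A
  a_ord : orderOf a = 2
  a_central : ∀ x ∈ A, Commute x a
  center : ∀ z ∈ A, (∀ x ∈ A, Commute x z) → z = 1 ∨ z = a
  sq : ∀ x ∈ A, x * x * (x * x) = 1 → x * x = 1 ∨ x * x = a
  root : ∃ c ∈ A, c * c = a ∧ ∀ x ∈ A, orderOf x = 2 → x ≠ a → c * x * c⁻¹ = a * x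
  root_comm : ∀ x ∈ A, x * x = a → ∀ y ∈ A, ∀ z ∈ A, Commute y x → Commute z x → Commute y z
  root_invol : ∀ x ∈ A, x * x = 1 → ∀ y ∈ A, y * y = a → Commute x y → x = 1 ∨ x = a
  nonab : ∃ x ∈ A, ∃ y ∈ A, ¬ Commute x y
  le : M ≤ A
  index : M.relIndex A = 2
  invol : ∀ x ∈ M, x * x = 1 → x = 1 ∨ x = a

namespace Fac

variable {P : Sylow 2 G} {A B M : Subgroup G} {a : G} (h : Fac P A B M a)
include h

theorem a_ne : a ≠ 1 := Invol.ne_one_of_orderOf_two h.a_ord

theorem a_sq : a * a = 1 := mul_self_two h.a_ord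

theorem a_commute_P {p : G} (hp : p ∈ (P : Subgroup G)) : Commute p a := by
  obtain ⟨u, hu, v, hv, rfl⟩ := h.pair.split hp
  exact (h.a_central u hu).mul_left (h.pair.comm a h.a_mem v hv).symm

theorem mem_sup_iff {u v : G} (hu : u ∈ A) (hv : v ∈ B) : u * v ∈ M ⊔ B ↔ u ∈ M := by
  refine ⟨fun hx => ?_, fun hx => Subgroup.mul_mem_sup hx hv⟩
  obtain ⟨c, hc, d, hd, e⟩ := h.pair.mem_sup h.le hx
  exact (h.pair.uniq hu (h.le hc) hv hd e).1 ▸ hc

theorem sup_relIndex : (M ⊔ B).relIndex (P : Subgroup G) = 2 := by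
  obtain ⟨t, ht⟩ := Subgroup.index_eq_two_iff.1 h.index
  rw [Subgroup.relIndex, Subgroup.index_eq_two_iff]
  refine ⟨⟨(t : G), h.pair.leA t.2⟩, fun b => ?_⟩
  obtain ⟨u, hu, v, hv, e⟩ := h.pair.split b.2
  have := ht ⟨u, hu⟩
  simp only [Subgroup.mem_subgroupOf, Subgroup.coe_mul] at this ⊢
  rwa [e, mul_assoc, ← (h.pair.comm _ t.2 v hv).eq, ← mul_assoc,
    h.mem_sup_iff (mul_mem hu t.2) hv, h.mem_sup_iff hu hv]

end Fac

/-- A dihedral factor of order at least eight. -/
theorem Fac.of_big {P : Sylow 2 G} {A B R : Subgroup G} {r s a : G} (h : Big P A B R r s a) :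
    Fac P A B R a where
  pair := h.pair
  a_mem := h.a_mem
  a_ord := h.dih.a_ord
  a_central := h.dih.a_central
  center := fun _ hz hc => h.center_cases hz hc
  sq := fun x hx h4 => by
    by_cases hR : x ∈ R
    · exact h.R_sq (mul_mem hR hR) h4
    · exact .inl (h.dih.sq_of_not_mem hx hR)
  root := by
    obtain ⟨c, hc, hcc, hcx⟩ := h.exists_root
    refine ⟨c, h.dih.le hc, hcc, fun x hx h2 hxa => hcx x hx fun hR => hxa ?_⟩
    exact (h.R_sq hR (mul_self_two h2)).resolve_left (Invol.ne_one_of_orderOf_two h2)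
  root_comm := fun x hx e y hy z hz cy cz => by
    have hx2 : x * x ≠ 1 := e ▸ h.a_ne
    have hxR := h.dih.mem_of_sq_ne hx hx2
    exact h.R_comm (by_contra fun hR => hx2 (h.sq_of_commute hy hR hxR cy))
      (by_contra fun hR => hx2 (h.sq_of_commute hz hR hxR cz))
  root_invol := fun x hx hx2 y hy e c => by
    have hy2 : y * y ≠ 1 := e ▸ h.a_ne
    have hxR : x ∈ R := by_contra fun hR => hy2 (h.sq_of_commute hx hR (h.dih.mem_of_sq_ne hy hy2) c)
    exact h.R_sq hxR hx2
  nonab := h.exists_not_commute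
  le := h.dih.le
  index := by
    rw [Subgroup.relIndex, Subgroup.index_eq_two_iff]
    refine ⟨⟨s, h.dih.s_mem⟩, fun u => ?_⟩
    simp only [Subgroup.mem_subgroupOf, Subgroup.coe_mul]
    rcases h.dih.cases u u.2 with hR | hR
    · refine .inr ⟨hR, fun hs => h.dih.s_not ?_⟩
      have := mul_mem (inv_mem hR) hs
      rwa [inv_mul_cancel_left] at this
    · refine .inl ⟨hR, fun hu => h.dih.s_not ?_⟩
      have := mul_mem (inv_mem hu) hR
      rwa [inv_mul_cancel_left] at this
  invol := fun _ hx hx2 => h.R_sq hx hx2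

/-- A quasi-dihedral factor. -/
theorem Fac.of_semi {P : Sylow 2 G} {B A : Subgroup G} {n : ℕ} {x y b : G} (h : Semi P B A n x y b) :
    Fac P B A (Subgroup.zpowers x) b where
  pair := h.pair
  a_mem := h.b_mem
  a_ord := h.b_ord
  a_central := h.b_central
  center := fun _ hz hc => h.center_cases hz hc
  sq := fun _ hv h4 => h.sq_cases hv h4
  root := by
    obtain ⟨q, hq, hqq, hqv⟩ := h.exists_root
    exact ⟨q, h.C_le hq, hqq, hqv⟩
  root_comm := fun _ hv e _ hy _ hz cy cz => h.root_comm hv e hy hz cy cz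
  root_invol := fun v hv hv2 w hw e c => by
    by_cases hC : v ∈ Subgroup.zpowers x
    · exact h.C_invol hC hv2
    rcases h.centralizer_cases hv hC hw c with e' | e' | e' | e' <;> rw [e'] at e
    · exact absurd (one_mul (1 : G) ▸ e).symm h.b_ne
    · exact absurd (h.b_sq ▸ e).symm h.b_ne
    · exact absurd (hv2 ▸ e).symm h.b_ne
    · refine absurd ?_ h.b_ne
      rw [← e, mul_assoc, ← mul_assoc v, (h.b_central v hv).eq, mul_assoc b v v, hv2, mul_one, h.b_sq]
  nonab := h.exists_not_commute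
  le := h.C_le
  index := h.index_C
  invol := fun _ hv hv2 => h.C_invol hv hv2

end Cfsg.Agent.SDFactor
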