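import Cfsg.Agent.Lib.Fus.SDFactor.FourSplit
import Cfsg.Agent.Lib.Fus.SDProduct.OneSide
import Cfsg.Agent.S0483

/-!
# Groups with dihedral times quasi-dihedral Sylow 2-subgroups: the two simple factors

The classification with quasi-dihedral Sylow 2-subgroups is an explicit hypothesis.
-/

set_option autoImplicit false
set_option linter.unusedSectionVars false
set_option linter.style.haveILetI false

namespace Cfsg.Agent.SDFactor

open Cfsg Cfsg.Agent.ProdFus Cfsg.Agent.ProdFus.Split
open Cfsg.Agent.Fus.SDProduct (SD SDList exists_sd closures_commute inf_closures_le factor_of_inf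
  mem_sylow_of_commute)
open scoped commutatorElement

universe u

variable {G : Type u} [Group G] [Finite G]

/-- The list for a factor with a dihedral Sylow 2-subgroup. -/
def DList (F : Type u) [Group F] : Prop :=
  Nonempty (F ≃* ↥(alternatingGroup (Fin 7))) ∨
    (∃ (K : Type) (_ : Field K) (_ : Fintype K), Odd (Fintype.card K) ∧ 5 ≤ Fintype.card K ∧
      Nonempty (F ≃* Matrix.ProjectiveSpecialLinearGroup (Fin 2) K)) ∨
    IsKleinFour F

variable {P : Sylow 2 G} {A B : Subgroup G}

/-- A normal subgroup generated by the conjugates of `B` has no central subgroup from the other factor. -/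
theorem eq_one_of_central (h : Prod P A B) {u : G} (hu : u ∈ A) (hA : ∀ v ∈ A, ∀ w ∈ A, Commute v w)
    (hAK : A ≤ Subgroup.normalClosure (B : Set G))
    (hAc : ∀ v ∈ A, ∀ k ∈ Subgroup.normalClosure (B : Set G), Commute v k) : u = 1 := by
  haveI : Fact (Nat.Prime 2) := ⟨Nat.prime_two⟩
  set K := Subgroup.normalClosure (B : Set G) with hK
  have hBK : B ≤ K := Subgroup.le_normalClosure
  have hPK : (P : Subgroup G) ≤ K := h.sup ▸ sup_le hAK hBK
  set S : Sylow 2 K := P.subtype hPK with hS
  haveI : IsMulCommutative A := ⟨⟨fun v w => Subtype.ext (hA v v.2 w w.2).eq⟩⟩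
  letI : CommGroup A := { (inferInstance : Group A) with mul_comm := fun v w => Subtype.ext (hA v v.2 w w.2).eq }
  let φ : ↥(S : Subgroup K) →* A :=
    h.proj.comp ((Subgroup.subgroupOfEquivOfLe hPK).toMonoidHom)
  have hφ : ∀ (z : ↥(S : Subgroup K)) {v w : G}, v ∈ A → w ∈ B → ((z : K) : G) = v * w →
      (φ z : G) = v := fun z v w hv hw e => h.proj_eq hv hw e
  obtain ⟨T, hT, -⟩ := extend_hom S φ fun z z' hc => by
    obtain ⟨k, hk⟩ := isConj_iff.1 hc
    obtain ⟨v, hv, w, hw, e⟩ := h.split (Subgroup.mem_subgroupOf.1 z.2)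
    obtain ⟨v', hv', w', hw', e'⟩ := h.split (Subgroup.mem_subgroupOf.1 z'.2)
    have e2 : (k : G) * w * (k : G)⁻¹ = v⁻¹ * v' * w' := by
      have h1 : (k : G) * (v * w) * (k : G)⁻¹ = v' * w' := by
        rw [← e, ← e', ← Subgroup.coe_inv, ← Subgroup.coe_mul, ← Subgroup.coe_mul, hk]
      rw [mul_assoc v⁻¹, ← h1, conj_mul', ← (hAc v hv k k.2).eq, mul_inv_cancel_right, inv_mul_cancel_left]
    have hmem := h.memB hw k (e2 ▸ h.mul_mem' (mul_mem (inv_mem hv) hv') hw')
    rw [e2] at hmem
    obtain ⟨h3, -⟩ := h.uniq (mul_mem (inv_mem hv) hv') (one_mem A) hw' hmem (one_mul _).symm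
    refine Subtype.ext ?_
    rw [hφ z hv hw e, hφ z' hv' hw' e', inv_mul_eq_one.1 h3]
  have hmap : K ≤ (T.ker).map K.subtype := by
    refine show Subgroup.closure (Group.conjugatesOfSet (B : Set G)) ≤ (T.ker).map K.subtype from
      (Subgroup.closure_le _).2 fun z hz => ?_
    obtain ⟨w, hw, hc⟩ := Group.mem_conjugatesOfSet_iff.1 hz
    obtain ⟨g, rfl⟩ := isConj_iff.1 hc
    have hgw : g * w * g⁻¹ ∈ K :=
      (Subgroup.normalClosure_normal (s := (B : Set G))).conj_mem w (hBK hw) g
    obtain ⟨j, hj⟩ := h.isPGroup_of_mem (h.leB hw)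
    obtain ⟨d, hd⟩ := Invol.exists_conj_mem_sylow (n := j) (x := (⟨_, hgw⟩ : K))
      (by rw [Subgroup.orderOf_mk, orderOf_conj, hj]) S
    have hdP : (d : G) * (g * w * g⁻¹) * (d : G)⁻¹ ∈ (P : Subgroup G) :=
      Subgroup.mem_subgroupOf.1 hd
    have hB' : (d : G) * (g * w * g⁻¹) * (d : G)⁻¹ ∈ B := by
      have := h.memB hw ((d : G) * g) (by simpa [mul_assoc] using hdP)
      simpa [mul_assoc] using this
    refine ⟨⟨_, hgw⟩, ?_, rfl⟩
    have h1 : T (d * (⟨_, hgw⟩ : K) * d⁻¹) = 1 := by
      rw [hT ⟨_, hd⟩, show φ ⟨_, hd⟩ = 1 from Subtype.ext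
        (hφ ⟨_, hd⟩ (one_mem A) hB' (by simp)), one_pow]
    rw [SetLike.mem_coe, MonoidHom.mem_ker]
    rwa [map_mul, map_mul, map_inv, mul_comm, inv_mul_cancel_left] at h1
  have huK : u ∈ K := hAK hu
  obtain ⟨z, hz, ez⟩ := hmap huK
  have hzP : z ∈ (S : Subgroup K) := Subgroup.mem_subgroupOf.2 (by
    rw [show (z : G) = u from ez]
    exact h.leA hu)
  have h1 := hT ⟨z, hzP⟩
  rw [show φ ⟨z, hzP⟩ = ⟨u, hu⟩ from Subtype.ext (hφ ⟨z, hzP⟩ hu (one_mem B)
    (by rw [mul_one]; exact ez))] at h1
  change T z = _ at h1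
  rw [MonoidHom.mem_ker.1 hz] at h1
  have h2 := orderOf_dvd_of_pow_eq_one h1.symm
  obtain ⟨j, hj⟩ := h.isPGroup_of_mem (h.leA hu)
  rw [Subgroup.orderOf_mk, hj] at h2
  rcases j with _ | j
  · exact orderOf_eq_one_iff.1 (by simpa using hj)
  · exact absurd ((dvd_pow_self 2 (by omega : j + 1 ≠ 0)).trans h2) S.not_dvd_index

theorem center_four {A : Subgroup G} (h4 : ∀ v ∈ A, v * v = 1) :
    ∀ v ∈ A, ∀ w ∈ A, Commute v w := fun v hv w hw => by
  show v * w = w * v
  calc v * w = (v * w)⁻¹ := (inv_eq_of_mul_eq_one_right (h4 _ (mul_mem hv hw))).symm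
    _ = w * v := by rw [mul_inv_rev, inv_eq_of_mul_eq_one_right (h4 v hv),
      inv_eq_of_mul_eq_one_right (h4 w hw)]

/-- The dihedral factor, big or four. -/
inductive Side (P : Sylow 2 G) (A B : Subgroup G) : Prop
  | big (m : ℕ) (hm : 3 ≤ m) (e : Nonempty (A ≃* DihedralGroup m)) (R : Subgroup G) (r s a : G)
      (hA : Big P A B R r s a) (IA : ∀ u ∈ A, orderOf u = 2 → IsConj u a)
  | four (card : Nat.card A = 4) (sq : ∀ v ∈ A, v * v = 1)

theorem Side.meet (hO : Cfsg.oddCore G = ⊥) (hZ : Subgroup.center G = ⊥) (h : Prod P A B)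
    (hs : Side P A B) (hB : Cfsg.IsQuasiDihedral B) :
    (P : Subgroup G) ⊓ (Subgroup.normalClosure (A : Set G) ⊓ Subgroup.normalClosure (B : Set G)) = ⊥ := by
  haveI : Fact (Nat.Prime 2) := ⟨Nat.prime_two⟩
  obtain ⟨n, x, y, sB⟩ := exists_sd hB
  rw [eq_bot_iff]
  intro z hz
  obtain ⟨hzP, hz1, hz2⟩ := hz
  have hzA : z ∈ A := inf_closures_le hO hZ h.swap sB ⟨hzP, hz2, hz1⟩
  rw [Subgroup.mem_bot]
  by_contra hne
  have hcomm := closures_commute hO h
  have hcP : ∀ w, w ∈ Subgroup.normalClosure (A : Set G) → w ∈ Subgroup.normalClosure (B : Set G) →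
      ∀ p ∈ (P : Subgroup G), Commute p w := by
    intro w hw1 hw2 p hp
    obtain ⟨v, hv, v', hv', rfl⟩ := h.split hp
    exact (hcomm v (Subgroup.le_normalClosure hv) w hw2).mul_left
      (hcomm w hw1 v' (Subgroup.le_normalClosure hv')).symm
  -- conjugates of an element of order two in the meet
  have hinto : ∀ {w : G}, w ∈ A → orderOf w = 2 → w ∈ Subgroup.normalClosure (B : Set G) → ∀ g : G,
      g * w * g⁻¹ ∈ A ∧ ∀ p ∈ (P : Subgroup G), Commute p (g * w * g⁻¹) := fun {w} hw hw2 hwB g => by
    have h1 := (Subgroup.normalClosure_normal (s := (A : Set G))).conj_mem _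
      (Subgroup.le_normalClosure hw) g
    have h2 := (Subgroup.normalClosure_normal (s := (B : Set G))).conj_mem _ hwB g
    have hc := hcP _ h1 h2
    exact ⟨h.memA hw g (mem_sylow_of_commute P ((orderOf_conj g _).trans hw2) hc), hc⟩
  have hzc := hcP z hz1 hz2
  cases hs with
  | big m hm e R r s a hA IA =>
    obtain rfl : z = a := (hA.center_cases hzA fun v hv => hzc v (h.leA hv)).resolve_left hne
    have hac : z ∈ Subgroup.center G := by
      rw [Subgroup.mem_center_iff]
      intro g
      obtain ⟨h1, h2⟩ := hinto hzA hA.dih.a_ord hz2 g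
      exact mul_inv_eq_iff_eq_mul.1 ((hA.center_cases h1 fun v hv => h2 v (h.leA hv)).resolve_left
        fun e1 => hne (conj_eq_one_iff.1 e1))
    rw [hZ, Subgroup.mem_bot] at hac
    exact hne hac
  | four card sq =>
    set N₂ := Subgroup.normalClosure (B : Set G)
    have hall : ∀ v ∈ A, v ∈ N₂ := by
      intro v hv
      by_contra hv2
      have hz2' := orderOf_two (sq z hzA) hne
      have hfix : ∀ g : G, g * z * g⁻¹ = z := fun g => by
        have h1 := (hinto hzA hz2' hz2 g).1
        have h2 : g * z * g⁻¹ ∈ N₂ := (Subgroup.normalClosure_normal (s := (B : Set G))).conj_mem _ hz2 g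
        by_contra hne2
        have hne1 : g * z * g⁻¹ ≠ 1 := fun e => hne (conj_eq_one_iff.1 e)
        have hset : ({1, z, g * z * g⁻¹, v} : Set G) = (A : Set G) := by
          refine Set.eq_of_subset_of_ncard_le ?_ ?_ (Set.toFinite _)
          · rintro w (rfl | rfl | rfl | rfl)
            exacts [one_mem A, hzA, h1, hv]
          · rw [Set.ncard_insert_of_notMem (by
                simp only [Set.mem_insert_iff, Set.mem_singleton_iff, not_or]
                exact ⟨Ne.symm hne, hne1.symm, fun e => hv2 (e ▸ one_mem _)⟩),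
              Set.ncard_insert_of_notMem (by
                simp only [Set.mem_insert_iff, Set.mem_singleton_iff, not_or]
                exact ⟨Ne.symm hne2, fun e => hv2 (e ▸ hz2)⟩),
              Set.ncard_pair (fun e : g * z * g⁻¹ = v => hv2 (e ▸ h2)), ← Nat.card_coe_set_eq]
            exact card.le
        have hzz : z * (g * z * g⁻¹) ∈ ({1, z, g * z * g⁻¹, v} : Set G) :=
          hset.symm ▸ (mul_mem hzA h1 : z * (g * z * g⁻¹) ∈ A)
        rcases hzz with e | e | e | e
        · exact hne2 ((eq_inv_of_mul_eq_one_right e).trans (inv_eq_of_mul_eq_one_right (sq z hzA)))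
        · exact hne1 (mul_eq_left.1 e)
        · exact hne (mul_eq_right.1 e)
        · exact hv2 (e ▸ mul_mem hz2 h2)
      have hac : z ∈ Subgroup.center G :=
        Subgroup.mem_center_iff.2 fun g => mul_inv_eq_iff_eq_mul.1 (hfix g)
      rw [hZ, Subgroup.mem_bot] at hac
      exact hne hac
    exact hne (eq_one_of_central h hzA (center_four sq) hall
      fun v hv w hw => hcomm v (Subgroup.le_normalClosure hv) w hw)

/-- The odd core of a normal subgroup is trivial. -/
theorem core_of_normal (hO : Cfsg.oddCore G = ⊥) (N : Subgroup G) [N.Normal] :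
    Cfsg.pPrimeCore 2 N = ⊥ := by
  haveI : Fact (Nat.Prime 2) := ⟨Nat.prime_two⟩
  have hn := Grp.normal_of_characteristic_map (Cfsg.pPrimeCore 2 N)
  have h1 : (Cfsg.pPrimeCore 2 N).map N.subtype ≤ Cfsg.pPrimeCore 2 G := by
    refine Grp.le_pPrimeCore hn ?_
    rw [Subgroup.card_map_of_injective Subtype.val_injective]
    exact Grp.pPrimeCore_coprime
  rw [show Cfsg.pPrimeCore 2 G = ⊥ from hO] at h1
  exact (Subgroup.map_eq_bot_iff_of_injective _ Subtype.val_injective).1 (le_bot_iff.1 h1)

/-- The dihedral factor's closure. -/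
theorem Side.factor (hO : Cfsg.oddCore G = ⊥) (hZ : Subgroup.center G = ⊥) (h : Prod P A B)
    (hs : Side P A B) (hinf : (P : Subgroup G) ⊓ Subgroup.normalClosure (A : Set G) = A) :
    DList ↥(Subgroup.normalClosure (A : Set G)) := by
  haveI : Fact (Nat.Prime 2) := ⟨Nat.prime_two⟩
  set N := Subgroup.normalClosure (A : Set G) with hN
  haveI : N.Normal := Subgroup.normalClosure_normal
  have hAN : A ≤ N := Subgroup.le_normalClosure
  have hodd : ¬ 2 ∣ (A.subgroupOf N).index := by
    have := Grp.sylow_inf_normal_relIndex P N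
    rwa [← Subgroup.inf_relIndex_right, hinf] at this
  let S : Sylow 2 N :=
    ((P.isPGroup'.to_le h.leA).comap_of_injective N.subtype Subtype.val_injective :
      IsPGroup 2 (A.subgroupOf N)).toSylow hodd
  have hS : (S : Subgroup N) = A.subgroupOf N := rfl
  set D := ⁅N, N⁆ with hD
  haveI : D.Normal := Subgroup.commutator_normal N N
  have hDN : D ≤ N := Subgroup.commutator_le_left N N
  have hperf : A ≤ D → Group.IsPerfect N := fun hAD => by
    have hND : N = D := le_antisymm (Subgroup.normalClosure_le_normal hAD) hDN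
    refine ⟨?_⟩
    apply Subgroup.map_injective N.subtype_injective
    rw [Subgroup.map_subtype_commutator, ← MonoidHom.range_eq_map, Subgroup.range_subtype, ← hD, ← hND]
  have hlist : A ≤ D → ∀ {m : ℕ}, 2 ≤ m → (A ≃* DihedralGroup m) → DList N := by
    intro hAD m hm e
    haveI := hperf hAD
    have hcore : Cfsg.oddCore N = ⊥ := core_of_normal hO N
    have eS : (S : Subgroup N) ≃* DihedralGroup m :=
      ((MulEquiv.subgroupCongr hS).trans (Subgroup.subgroupOfEquivOfLe hAN)).trans e
    haveI : (Cfsg.oddCore N).Normal := Grp.pPrimeCore_isNormal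
    let eQ : N ⧸ Cfsg.oddCore N ≃* N :=
      (QuotientGroup.quotientMulEquivOfEq hcore).trans QuotientGroup.quotientBot
    rcases S0483.result S m hm ⟨eS⟩ with ⟨F, i₁, i₂, ho, h3, ⟨e'⟩⟩ | ⟨e'⟩
    · refine .inr (.inl ⟨F, i₁, i₂, ho, ?_, ⟨eQ.symm.trans e'⟩⟩)
      obtain ⟨j, hj⟩ := ho
      omega
    · exact .inl (e'.map fun f => eQ.symm.trans f)
  cases hs with
  | big m hm e R r s a hA IA =>
    obtain ⟨e⟩ := e
    refine hlist ?_ (by omega) e
    have hsr : r⁻¹ * r⁻¹ ∈ D := by
      have h1 : ⁅s, r⁆ ∈ D :=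
        Subgroup.commutator_mem_commutator (hAN hA.dih.s_mem) (hAN (hA.dih.le hA.r_mem))
      rwa [commutatorElement_def, hA.dih.inv r hA.r_mem] at h1
    obtain ⟨k, hk⟩ := hA.r_pow_two
    have haD : a ∈ D := by
      have h2 : orderOf (r ^ (2 ^ (k + 1))) = 2 := by
        simpa using orderOf_pow_two_pow (x := r) (i := k + 1) (j := 1) (by rw [hk])
      rw [← hA.dih.unique_invol (pow_mem hA.r_mem _) hA.dih.a_mem h2 hA.dih.a_ord, pow_succ', pow_mul,
        pow_two]
      have : r * r ∈ D := by simpa using inv_mem hsr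
      exact pow_mem this _
    refine hA.gens.trans ((Subgroup.closure_le _).2 fun u hu => ?_)
    obtain ⟨g, hg⟩ := isConj_iff.1 (IA u hu.1 hu.2).symm
    rw [← hg]
    exact (inferInstance : D.Normal).conj_mem a haD g
  | four card sq =>
    haveI hK : IsKleinFour A :=
      { card_four := card
        exponent_two := by
          haveI : Nontrivial A := Finite.one_lt_card_iff_nontrivial.1 (by omega)
          refine (Monoid.exponent_eq_prime_iff Nat.prime_two).2 fun v hv => ?_
          rw [← Subgroup.orderOf_coe]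
          exact orderOf_two (sq v v.2) fun e1 => hv (Subtype.ext e1) }
    by_cases hex : ∃ u ∈ A, u ≠ 1 ∧ u ∈ D
    · obtain ⟨u, hu, hu1, huD⟩ := hex
      refine hlist (fun v hv => ?_) le_rfl (IsKleinFour.nonempty_mulEquiv (G₂ := DihedralGroup 2)).some
      -- a second involution of `A` in `D`
      obtain ⟨g, hg, hne⟩ : ∃ g : G, g * u * g⁻¹ ∈ (P : Subgroup G) ∧ g * u * g⁻¹ ≠ u := by
        by_contra hc
        push Not at hc
        have := mem_center_of_iso hO (h.leA hu) (orderOf_two (sq u hu) hu1) hc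
        rw [hZ, Subgroup.mem_bot] at this
        exact hu1 this
      have hu' := h.memA hu g hg
      have hu'D : g * u * g⁻¹ ∈ D := (inferInstance : D.Normal).conj_mem u huD g
      have hu'1 : g * u * g⁻¹ ≠ 1 := fun e => hu1 (conj_eq_one_iff.1 e)
      have hset : ({1, u, g * u * g⁻¹, u * (g * u * g⁻¹)} : Set G) = (A : Set G) := by
        refine Set.eq_of_subset_of_ncard_le ?_ ?_ (Set.toFinite _)
        · rintro w (rfl | rfl | rfl | rfl)
          exacts [one_mem A, hu, hu', mul_mem hu hu']
        · have huu := inv_eq_of_mul_eq_one_right (sq u hu)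
          rw [Set.ncard_insert_of_notMem (by
              simp only [Set.mem_insert_iff, Set.mem_singleton_iff, not_or]
              exact ⟨hu1.symm, hu'1.symm, fun e => hne ((eq_inv_of_mul_eq_one_right e.symm).trans huu)⟩),
            Set.ncard_insert_of_notMem (by
              simp only [Set.mem_insert_iff, Set.mem_singleton_iff, not_or]
              exact ⟨hne.symm, fun e => hu'1 (mul_eq_left.1 e.symm)⟩),
            Set.ncard_pair (fun e => hu1 (mul_eq_right.1 e.symm)), ← Nat.card_coe_set_eq]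
          exact card.le
      have hv' : v ∈ ({1, u, g * u * g⁻¹, u * (g * u * g⁻¹)} : Set G) := hset.symm ▸ hv
      rcases hv' with e | e | e | e <;> rw [e]
      exacts [one_mem D, huD, hu'D, mul_mem huD hu'D]
    · -- `N` is the four group
      push Not at hex
      have hDodd : D = ⊥ := by
        have h1 : ¬ 2 ∣ ((P : Subgroup G).subgroupOf D).index := Grp.sylow_inf_normal_relIndex P D
        have h2 : (P : Subgroup G).subgroupOf D = ⊥ := by
          rw [eq_bot_iff]
          intro w hw
          rw [Subgroup.mem_bot]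
          have hwA : (w : G) ∈ A := hinf.le ⟨Subgroup.mem_subgroupOf.1 hw, hDN w.2⟩
          by_contra hne
          exact hex w hwA (fun e => hne (Subtype.ext e)) w.2
        rw [h2, Subgroup.index_bot] at h1
        rw [eq_bot_iff, ← hO]
        exact Grp.le_pPrimeCore (p := 2) inferInstance (Nat.coprime_two_right.2
          (Nat.odd_iff.2 (Nat.two_dvd_ne_zero.1 h1)))
      have hcomm : ∀ v w : N, v * w = w * v := fun v w => Subtype.ext
        (commutatorElement_eq_one_iff_commute.1 (Subgroup.mem_bot.1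
          (hDodd ▸ Subgroup.commutator_mem_commutator v.2 w.2))).eq
      letI : CommGroup N := { (inferInstance : Group N) with mul_comm := hcomm }
      have htwo : ∀ v : N, v ∈ (S : Subgroup N) := by
        intro v
        by_contra hv
        -- odd-order elements form a normal subgroup of odd order
        set M : Subgroup N := (powMonoidHom 4 : N →* N).range with hM
        have hcardS : Nat.card (S : Subgroup N) = 4 := by
          rw [hS, Nat.card_congr (Subgroup.subgroupOfEquivOfLe hAN).toEquiv, card]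
        have h4 : v ^ 4 = 1 := by
          set o := (S : Subgroup N).index with ho
          have hM' : ¬ 2 ∣ Nat.card M := by
            intro hd
            obtain ⟨t, ht⟩ := exists_prime_orderOf_dvd_card' (G := M) 2 hd
            obtain ⟨⟨_, w, rfl⟩, rfl⟩ : ∃ t' : M, t' = t := ⟨t, rfl⟩
            rw [← Subgroup.orderOf_coe] at ht
            simp only [powMonoidHom_apply] at ht
            have hw8 : w ^ 8 = 1 := by
              rw [show (8 : ℕ) = 4 * 2 from rfl, pow_mul, ← ht, pow_orderOf_eq_one]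
            have hwS : w ∈ (S : Subgroup N) := by
              haveI : (S : Subgroup N).Normal := inferInstance
              have hp : IsPGroup 2 (Subgroup.zpowers w) := by
                obtain ⟨j, -, hj⟩ := (Nat.dvd_prime_pow Nat.prime_two).1
                  (orderOf_dvd_of_pow_eq_one (x := w) (n := 2 ^ 3) hw8)
                exact IsPGroup.of_card (n := j) (by rw [Nat.card_zpowers, hj])
              obtain ⟨d, hd⟩ := Invol.exists_conj_subset_sylow hp S
              have := hd w (Subgroup.mem_zpowers w)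
              rwa [hcomm d w, mul_inv_cancel_right] at this
            have : w ^ 4 = 1 := by
              have := pow_card_eq_one' (x := (⟨w, hwS⟩ : (S : Subgroup N)))
              rw [hcardS] at this
              exact congrArg Subtype.val this
            rw [this, orderOf_one] at ht
            omega
          have hMb : M = ⊥ := by
            rw [eq_bot_iff, ← core_of_normal hO N]
            exact Grp.le_pPrimeCore (p := 2) inferInstance
              (Nat.coprime_two_right.2 (Nat.odd_iff.2 (Nat.two_dvd_ne_zero.1 hM')))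
          have : v ^ 4 ∈ M := ⟨v, rfl⟩
          rwa [hMb, Subgroup.mem_bot] at this
        refine hv ?_
        haveI : (S : Subgroup N).Normal := inferInstance
        have hp : IsPGroup 2 (Subgroup.zpowers v) := by
          obtain ⟨j, -, hj⟩ := (Nat.dvd_prime_pow Nat.prime_two).1
            (orderOf_dvd_of_pow_eq_one (x := v) (n := 2 ^ 2) h4)
          exact IsPGroup.of_card (n := j) (by rw [Nat.card_zpowers, hj])
        obtain ⟨d, hd⟩ := Invol.exists_conj_subset_sylow hp S
        have := hd v (Subgroup.mem_zpowers v)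
        rwa [hcomm d v, mul_inv_cancel_right] at this
      have hNA : N = A := le_antisymm (fun v hv => by
        have := htwo ⟨v, hv⟩
        rw [hS] at this
        exact this) hAN
      refine .inr (.inr ?_)
      rw [hNA]
      exact hK

/-- Dihedral times quasi-dihedral: the theorem from the quasi-dihedral classification. -/
theorem main (hSD : Invol.AbgConsumers.SDStmt.{u}) (h2 : ∀ H : Subgroup G, H.index ≠ 2)
    (hO : Cfsg.oddCore G = ⊥) (hZ : Subgroup.center G = ⊥) (S : Sylow 2 G) (S₁ S₂ : Subgroup G)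
    (hS : Cfsg.IsInternalDirectProduct S₁ S₂ (S : Subgroup G)) (m : ℕ) (hm : 2 ≤ m)
    (e₁ : Nonempty (↥S₁ ≃* DihedralGroup m)) (h₂ : Cfsg.IsQuasiDihedral ↥S₂) :
    ∃ N : Subgroup G, N.Normal ∧ Odd N.index ∧ ∃ F₁ F₂ : Subgroup G,
      Cfsg.IsInternalDirectProduct F₁ F₂ N ∧ DList ↥F₁ ∧ SDList ↥F₂ := by
  haveI : Fact (Nat.Prime 2) := ⟨Nat.prime_two⟩
  obtain ⟨-, -, hc, hd, hsup⟩ := hS
  obtain ⟨e⟩ := e₁
  have hp : Pair S S₁ S₂ := ⟨fun x hx y hy => hc x hx y hy, hd, hsup⟩
  have h2' : ∀ H : Subgroup G, H.Normal → H.index ≠ 2 := fun H _ => h2 H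
  obtain ⟨A, B, hP, hside, hB⟩ : ∃ A B : Subgroup G, Prod S A B ∧ Side S A B ∧ Cfsg.IsQuasiDihedral B := by
    by_cases hm2 : m = 2
    · subst hm2
      have hsq : ∀ v ∈ S₁, v * v = 1 := fun v hv => by
        have key : ∀ w : DihedralGroup 2, w * w = 1 := by decide
        exact congrArg Subtype.val (e.injective (by rw [map_mul, key, map_one]) :
          (⟨v, hv⟩ : S₁) * ⟨v, hv⟩ = 1)
      obtain ⟨A, B, hP, hc4, hs4, hB⟩ := exists_prod_of_four_semi h2' hO hZ hp
        (by rw [Nat.card_congr e.toEquiv, DihedralGroup.nat_card]) hsq h₂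
      exact ⟨A, B, hP, .four hc4 hs4, hB⟩
    · haveI : NeZero m := ⟨by omega⟩
      obtain ⟨R, r, s, a, hd', hg⟩ := exists_dih (S.isPGroup'.to_le hp.leA) hm e
      obtain ⟨k, hk⟩ := IsPGroup.iff_card.1 (S.isPGroup'.to_le hp.leA)
      rw [Nat.card_congr e.toEquiv, DihedralGroup.nat_card] at hk
      obtain ⟨j, -, hj⟩ := (Nat.dvd_prime_pow Nat.prime_two).1 (Dvd.intro_left 2 hk : m ∣ 2 ^ k)
      have hmd : 2 ∣ m := by
        rw [hj]
        rcases j with _ | j
        · simp at hj; omega
        · exact dvd_pow_self 2 (by omega)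
      have hbig : Big S S₁ S₂ R r s a := by
        refine ⟨hp, hd', ?_, hg⟩
        by_contra h4
        obtain ⟨i, hi⟩ := IsPGroup.iff_orderOf.1 S.isPGroup'
          ⟨r, hp.leA (hd'.le (hd'.gen ▸ Subgroup.mem_zpowers r))⟩
        rw [Subgroup.orderOf_mk] at hi
        have hrr : r * r = 1 := by
          rw [← pow_two]
          refine orderOf_dvd_iff_pow_eq_one.1 ?_
          rcases i with _ | _ | i
          · simp [hi]
          · simp [hi]
          · exfalso; apply h4; rw [hi]; exact Nat.pow_le_pow_right two_pos (show 2 ≤ i + 1 + 1 by omega)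
        have hsq : ∀ v ∈ S₁, v * v = 1 := fun v hv => by
          by_cases hR : v ∈ R
          · obtain ⟨i, rfl⟩ := Subgroup.mem_zpowers_iff.1 (hd'.gen ▸ hR)
            rw [← (Commute.refl r).mul_zpow, hrr, one_zpow]
          · exact hd'.sq_of_not_mem hv hR
        have h1 := congrArg e (Subtype.ext (hsq _ (e.symm (DihedralGroup.r 1)).2) :
          e.symm (DihedralGroup.r 1) * e.symm (DihedralGroup.r 1) = 1)
        rw [map_mul, map_one, MulEquiv.apply_symm_apply, ← pow_two] at h1
        have := Nat.le_of_dvd two_pos (orderOf_dvd_of_pow_eq_one h1)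
        rw [DihedralGroup.orderOf_r_one] at this
        omega
      obtain ⟨A, B, hP, ⟨R', r', s', hA', IA⟩, he, hB⟩ := exists_prod_of_big h2' hmd hbig e h₂
      exact ⟨A, B, hP, .big m (by omega) he R' r' s' a hA' IA, hB⟩
  set N₁ := Subgroup.normalClosure (A : Set G) with hN₁
  set N₂ := Subgroup.normalClosure (B : Set G) with hN₂
  have hcomm := closures_commute hO hP
  have hmeet := hside.meet hO hZ hP hB
  have hint : N₁ ⊓ N₂ = ⊥ := by
    haveI : (N₁ ⊓ N₂).Normal := Subgroup.normal_inf_normal N₁ N₂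
    have hodd : Odd ((⊥ : Subgroup G).relIndex (N₁ ⊓ N₂)) := by
      rw [← hmeet, Subgroup.inf_relIndex_right]
      exact Nat.odd_iff.2 (Nat.two_dvd_ne_zero.1 (Grp.sylow_inf_normal_relIndex S _))
    rw [Subgroup.relIndex_bot_left] at hodd
    rw [eq_bot_iff, ← hO]
    exact Grp.le_pPrimeCore (p := 2) inferInstance (Nat.coprime_two_right.2 hodd)
  have hinfA : (S : Subgroup G) ⊓ N₁ = A := by
    refine le_antisymm (fun z hz => ?_) (le_inf hP.leA Subgroup.le_normalClosure)
    obtain ⟨u, hu, v, hv, rfl⟩ := hP.split hz.1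
    have h1 : v ∈ N₁ := by
      have := mul_mem (inv_mem (Subgroup.le_normalClosure hu : u ∈ N₁)) hz.2
      rwa [inv_mul_cancel_left] at this
    have h2 : v ∈ N₁ ⊓ N₂ := ⟨h1, Subgroup.le_normalClosure hv⟩
    rw [hint, Subgroup.mem_bot] at h2
    rw [h2, mul_one]; exact hu
  have hinfB : (S : Subgroup G) ⊓ N₂ = B := by
    refine le_antisymm (fun z hz => ?_) (le_inf hP.leB Subgroup.le_normalClosure)
    obtain ⟨u, hu, v, hv, rfl⟩ := hP.split hz.1
    have h1 : u ∈ N₂ := by
      have hzN : u * v ∈ N₂ := hz.2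
      have := mul_mem hzN (inv_mem (Subgroup.le_normalClosure hv : v ∈ N₂))
      rwa [mul_inv_cancel_right] at this
    have h2 : u ∈ N₁ ⊓ N₂ := ⟨Subgroup.le_normalClosure hu, h1⟩
    rw [hint, Subgroup.mem_bot] at h2
    rw [h2, one_mul]; exact hv
  obtain ⟨n, x, y, sB⟩ := exists_sd hB
  have hle : (S : Subgroup G) ≤ N₁ ⊔ N₂ :=
    hP.sup ▸ sup_le_sup Subgroup.le_normalClosure Subgroup.le_normalClosure
  refine ⟨N₁ ⊔ N₂, Subgroup.sup_normal N₁ N₂, Nat.odd_iff.2 (Nat.two_dvd_ne_zero.1 fun h =>
      S.not_dvd_index (h.trans (Subgroup.index_dvd_of_le hle))), N₁, N₂,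
    ⟨le_sup_left, le_sup_right, fun p hp q hq => (hcomm p hp q hq).eq, hint, rfl⟩,
    hside.factor hO hZ hP hinfA, factor_of_inf hSD h2' hO hP.swap sB hinfB⟩

end Cfsg.Agent.SDFactor
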