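import Cfsg.Agent.Lib.Fus.SDFactor.Semi
import Cfsg.Agent.Lib.Transfer.Product.Split.Central
import Cfsg.Agent.S3116

/-!
# A quasi-dihedral factor times a four group: the complement centralized by a moving element

An element `k` of odd order normalizing the Sylow subgroup and moving its centre gives the invariant four group
`W` and the complement `P ∩ C(k)`, again quasi-dihedral.
-/

set_option autoImplicit false
set_option linter.unusedSectionVars false
set_option linter.style.haveILetI false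

namespace Cfsg.Agent.SDFactor

open Cfsg Cfsg.Agent.ProdFus Cfsg.Agent.ProdFus.Split
open Cfsg.Agent.Invol (qq)

universe u

variable {G : Type u} [Group G] [Finite G]

/-- A complement four group moved without fixed points by an element centralizing the other factor. -/
structure FourMove (P : Sylow 2 G) (B W : Subgroup G) (n : ℕ) (x y b k : G) : Prop where
  semi : Semi P B W n x y b
  card : Nat.card W = 4
  sq : ∀ w ∈ W, w * w = 1
  norm : k ∈ Subgroup.normalizer (P : Set G)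
  fixB : ∀ v ∈ B, Commute k v
  stable : ∀ w ∈ W, k * w * k⁻¹ ∈ W
  free : ∀ w ∈ W, k * w * k⁻¹ = w → w = 1

theorem pair_card {P : Sylow 2 G} {A B : Subgroup G} (h : Pair P A B) :
    Nat.card (P : Subgroup G) = Nat.card A * Nat.card B := by
  rw [← Nat.card_prod]
  refine (Nat.card_congr (Equiv.ofBijective (fun q : A × B =>
    (⟨(q.1 : G) * q.2, h.mul_mem' q.1.2 q.2.2⟩ : (P : Subgroup G))) ⟨fun q q' e => ?_, fun p => ?_⟩)).symm
  · obtain ⟨h1, h2⟩ := h.uniq q.1.2 q'.1.2 q.2.2 q'.2.2 (congrArg Subtype.val e)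
    exact Prod.ext (Subtype.ext h1) (Subtype.ext h2)
  · obtain ⟨u, hu, v, hv, e⟩ := h.split p.2
    exact ⟨(⟨u, hu⟩, ⟨v, hv⟩), Subtype.ext e.symm⟩

namespace Semi

variable {P : Sylow 2 G} {B A : Subgroup G} {n : ℕ} {x y b : G} (h : Semi P B A n x y b)
  (hA2 : ∀ v ∈ A, v * v = 1)
include h hA2

theorem four_central {p v : G} (hp : p ∈ (P : Subgroup G)) (hv : v ∈ A) : Commute p v := by
  obtain ⟨w, hw, u, hu, rfl⟩ := h.pair.split hp
  refine (h.pair.comm w hw v hv).mul_left ?_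
  show u * v = v * u
  calc u * v = (u * v)⁻¹ := (inv_eq_of_mul_eq_one_right (hA2 _ (mul_mem hu hv))).symm
    _ = v * u := by
      rw [mul_inv_rev, inv_eq_of_mul_eq_one_right (hA2 u hu), inv_eq_of_mul_eq_one_right (hA2 v hv)]

theorem b_commute_P {p : G} (hp : p ∈ (P : Subgroup G)) : Commute p b := by
  obtain ⟨w, hw, u, hu, rfl⟩ := h.pair.split hp
  exact (h.b_central w hw).mul_left (h.pair.comm b h.b_mem u hu).symm

theorem center_form {z : G} (hz : z ∈ (P : Subgroup G)) (hc : ∀ p ∈ (P : Subgroup G), Commute p z) :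
    ∃ v ∈ A, z = v ∨ z = b * v := by
  obtain ⟨w, hw, u, hu, rfl⟩ := h.pair.split hz
  refine ⟨u, hu, ?_⟩
  rcases h.center_cases hw fun q hq => by
    have := hc (q * 1) (h.pair.mul_mem' hq (one_mem A))
    exact ((h.pair.commute_iff hq (one_mem A) hw hu).1 this).1 with e | e
  · exact .inl (by rw [e, one_mul])
  · exact .inr (by rw [e])

/-- An element taking the generator into the Sylow subgroup fixes `b`. -/
theorem fix_b {g : G} (hg : g * x * g⁻¹ ∈ (P : Subgroup G)) : g * b * g⁻¹ = b := by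
  haveI : Fact (Nat.Prime 2) := ⟨Nat.prime_two⟩
  obtain ⟨w, hw, u, hu, e⟩ := h.pair.split hg
  have hN : ((2 ^ (n - 1) : ℕ) : ℤ) = 2 * qq n := by
    rw [Invol.qq, ← pow_succ', show n - 2 + 1 = n - 1 by have := h.hn; omega]
    push_cast
    rfl
  obtain ⟨m, hm⟩ : ∃ m, 2 ^ (n - 1) = 2 * m :=
    ⟨2 ^ (n - 2), by rw [← pow_succ']; congr 1; have := h.hn; omega⟩
  have himg : g * b * g⁻¹ = w ^ (2 ^ (n - 1)) := by
    rw [h.b_eq, ← hN, zpow_natCast, ← conj_pow, e, h.pair.pow hw hu, hm, pow_mul u, pow_two, hA2 u hu,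
      one_pow, mul_one]
  have hw1 : w ^ (2 ^ (n - 1)) ≠ 1 := fun e1 => h.b_ne (conj_eq_one_iff.1 (himg.trans e1))
  have hwn : w ^ (2 ^ n) = 1 := by
    have h1 : w ^ (2 ^ n) * u ^ (2 ^ n) = 1 := by
      rw [← h.pair.pow hw hu, ← e, conj_pow, ← h.ox, pow_orderOf_eq_one, mul_one, mul_inv_cancel]
    exact ((h.pair.eq_one_iff (pow_mem hw _) (pow_mem hu _)).1 h1).1
  have hwo : orderOf w = 2 ^ n := by
    have := orderOf_eq_prime_pow (p := 2) (n := n - 1) (x := w) hw1
      (by rw [show n - 1 + 1 = n by have := h.hn; omega]; exact hwn)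
    rwa [show n - 1 + 1 = n by have := h.hn; omega] at this
  have hwC : w ∈ Subgroup.zpowers x := by
    by_contra hC
    have h8 : 2 ^ 3 ≤ 2 ^ n := Nat.pow_le_pow_right two_pos h.hn
    by_cases h2 : w * w = 1
    · have := Nat.le_of_dvd two_pos
        (orderOf_dvd_of_pow_eq_one (x := w) (n := 2) (by rw [pow_two]; exact h2))
      omega
    · have := (h.four_conj hw hC h2).1
      omega
  rw [himg]
  refine (h.C_invol (pow_mem hwC _) ?_).resolve_left hw1
  rw [← pow_add, ← two_mul, ← pow_succ', show n - 1 + 1 = n by have := h.hn; omega, hwn]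

/-- Twisting along the four group. -/
theorem exists_fourMove (h2 : ∀ H : Subgroup G, H.Normal → H.index ≠ 2) (hA : Nat.card A = 4) :
    ∃ (B₀ W : Subgroup G) (x₀ y₀ k : G), FourMove P B₀ W n x₀ y₀ b k := by
  haveI : Fact (Nat.Prime 2) := ⟨Nat.prime_two⟩
  -- an involution of `A` is moved by the normalizer
  obtain ⟨f, hf, hf1⟩ : ∃ f ∈ A, f ≠ 1 := by
    by_contra hc
    push Not at hc
    have : Subgroup.zpowers (1 : G) = A := le_antisymm (by simp) fun v hv => by simp [hc v hv]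
    rw [← this, Nat.card_zpowers, orderOf_one] at hA
    omega
  obtain ⟨f', hf', hf'1, hff'⟩ : ∃ f' ∈ A, f' ≠ 1 ∧ f' ≠ f := by
    by_contra hc
    push Not at hc
    have hle : A ≤ Subgroup.zpowers f := fun v hv => by
      by_cases hv1 : v = 1
      · rw [hv1]; exact one_mem _
      · rw [hc v hv hv1]; exact Subgroup.mem_zpowers f
    have := Subgroup.card_le_of_le hle
    rw [hA, Nat.card_zpowers] at this
    have := Nat.le_of_dvd two_pos (orderOf_dvd_of_pow_eq_one (x := f) (n := 2)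
      (by rw [pow_two]; exact hA2 f hf))
    omega
  have hfM : f ∉ Subgroup.zpowers f' := fun hm => by
    rcases Subgroup.mem_zpowers_iff.1 hm with ⟨i, rfl⟩
    rcases Int.even_or_odd' i with ⟨j, rfl | rfl⟩
    · exact hf1 (by rw [zpow_mul, zpow_two, hA2 f' hf', one_zpow])
    · exact hff' (by rw [zpow_add, zpow_mul, zpow_two, hA2 f' hf', one_zpow, zpow_one, one_mul])
  have hidx : (Subgroup.zpowers f').relIndex A = 2 := by
    have h1 := Subgroup.card_mul_index ((Subgroup.zpowers f').subgroupOf A)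
    rw [Nat.card_congr (Subgroup.subgroupOfEquivOfLe (Subgroup.zpowers_le.2 hf')).toEquiv,
      Nat.card_zpowers, orderOf_two (hA2 f' hf') hf'1, hA] at h1
    rw [Subgroup.relIndex]
    omega
  set M := Subgroup.zpowers f' ⊔ B with hM
  have hrel : M.relIndex (P : Subgroup G) = 2 := by
    obtain ⟨t, ht⟩ := Subgroup.index_eq_two_iff.1 hidx
    rw [Subgroup.relIndex, Subgroup.index_eq_two_iff]
    refine ⟨⟨(t : G), h.pair.leB t.2⟩, fun q => ?_⟩
    have hiff : ∀ {u w : G}, u ∈ A → w ∈ B → (u * w ∈ M ↔ u ∈ Subgroup.zpowers f') := by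
      intro u w hu hw
      refine ⟨fun hx => ?_, fun hx => Subgroup.mul_mem_sup hx hw⟩
      obtain ⟨c, hc, d, hd, e⟩ := h.pair.swap.mem_sup (Subgroup.zpowers_le.2 hf') hx
      exact (h.pair.swap.uniq hu (Subgroup.zpowers_le.2 hf' hc) hw hd e).1 ▸ hc
    obtain ⟨u, hu, w, hw, e⟩ := h.pair.swap.split q.2
    have := ht ⟨u, hu⟩
    simp only [Subgroup.mem_subgroupOf, Subgroup.coe_mul] at this ⊢
    rwa [e, mul_assoc, (h.pair.comm w hw _ t.2).eq, ← mul_assoc, hiff (mul_mem hu t.2) hw, hiff hu hw]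
  obtain ⟨g, hgP, -, hgM⟩ := exists_move h2 P hrel (orderOf_two (hA2 f hf) hf1) P.isPGroup'
    fun t ht => h.four_central hA2 ht hf
  have hgN : g ∈ Subgroup.normalizer (P : Set G) := BS.mem_normalizer_of_conj_le hgP
  have hgf : g * f * g⁻¹ ≠ f := fun e => by
    rw [e] at hgM
    obtain ⟨c, hc, d, hd, e'⟩ := h.pair.swap.mem_sup (Subgroup.zpowers_le.2 hf') hgM
    exact hfM ((h.pair.swap.uniq hf (Subgroup.zpowers_le.2 hf' hc) (one_mem B) hd
      (by rw [mul_one]; exact e')).1 ▸ hc)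
  -- replace it by an element of odd order
  obtain ⟨i, o, ho, hord⟩ := Nat.exists_eq_two_pow_mul_odd (orderOf_pos g).ne'
  set k := g ^ (2 ^ i) with hk
  have hkN : k ∈ Subgroup.normalizer (P : Set G) := pow_mem hgN _
  have hko : k ^ o = 1 := by rw [hk, ← pow_mul, ← hord, pow_orderOf_eq_one]
  have hpP : g ^ o ∈ (P : Subgroup G) := by
    have hp : IsPGroup 2 (Subgroup.zpowers (g ^ o)) := by
      refine IsPGroup.of_card (n := i) ?_
      rw [Nat.card_zpowers, orderOf_pow' _ ho.pos.ne', hord, Nat.gcd_eq_right (Dvd.intro_left _ rfl),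
        Nat.mul_div_cancel _ ho.pos]
    have hle : Subgroup.zpowers (g ^ o) ≤ Subgroup.normalizer (P : Set G) :=
      Subgroup.zpowers_le.2 (pow_mem hgN o)
    have := hp.inf_normalizer_sylow P
    rw [inf_eq_left.2 hle] at this
    exact (this.le (Subgroup.mem_zpowers _)).2
  have hkf : k * f * k⁻¹ ≠ f := fun e => hgf (by
    have h1 : g ^ o ∈ Subgroup.centralizer ({f} : Set G) :=
      Subgroup.mem_centralizer_singleton_iff.2 (h.four_central hA2 hpP hf).eq
    have h2' : k ∈ Subgroup.centralizer ({f} : Set G) :=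
      Subgroup.mem_centralizer_singleton_iff.2 (mul_inv_eq_iff_eq_mul.1 e)
    obtain ⟨s, t, hst⟩ : ∃ s t : ℤ, 1 = (2 ^ i : ℕ) * s + (o : ℕ) * t := by
      have hc : Nat.Coprime (2 ^ i) o := Nat.Coprime.pow_left i (Nat.coprime_two_left.2 ho)
      exact ⟨Nat.gcdA (2 ^ i) o, Nat.gcdB (2 ^ i) o, by
        rw [← Nat.gcd_eq_gcd_ab, hc.gcd_eq_one]; rfl⟩
    have h3 : g ∈ Subgroup.centralizer ({f} : Set G) := by
      rw [show g = k ^ s * (g ^ o) ^ t by
        rw [hk, ← zpow_natCast, ← zpow_natCast g o, ← zpow_mul, ← zpow_mul, ← zpow_add, ← hst, zpow_one]]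
      exact mul_mem (zpow_mem h2' s) (zpow_mem h1 t)
    exact mul_inv_eq_iff_eq_mul.2 (Subgroup.mem_centralizer_singleton_iff.1 h3))
  have hkb : k * b * k⁻¹ = b :=
    h.fix_b hA2 ((Subgroup.mem_normalizer_iff.1 hkN x).1 (h.pair.leA h.x_mem))
  -- the fixed points and the commutators
  set E := Subgroup.zpowers b ⊔ A with hE
  have hbz : ∀ {v : G}, v ∈ Subgroup.zpowers b → v = 1 ∨ v = b := fun {v} hv => by
    obtain ⟨i, rfl⟩ := Subgroup.mem_zpowers_iff.1 hv
    rcases Int.even_or_odd' i with ⟨j, rfl | rfl⟩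
    · exact .inl (by rw [zpow_mul, zpow_two, h.b_sq, one_zpow])
    · exact .inr (by rw [zpow_add, zpow_mul, zpow_two, h.b_sq, one_zpow, zpow_one, one_mul])
  have hmemE : ∀ {e : G}, e ∈ E ↔ ∃ v ∈ A, e = v ∨ e = b * v := by
    intro e
    constructor
    · intro he
      obtain ⟨c, hc, v, hv, rfl⟩ := h.pair.mem_sup (Subgroup.zpowers_le.2 h.b_mem) he
      rcases hbz hc with rfl | rfl
      · exact ⟨v, hv, .inl (one_mul v)⟩
      · exact ⟨v, hv, .inr rfl⟩
    · rintro ⟨v, hv, rfl | rfl⟩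
      · exact Subgroup.mem_sup_right hv
      · exact Subgroup.mul_mem_sup (Subgroup.mem_zpowers b) hv
  have hEP : E ≤ (P : Subgroup G) :=
    sup_le (Subgroup.zpowers_le.2 (h.pair.leA h.b_mem)) h.pair.leB
  have hEc : ∀ e ∈ E, ∀ p ∈ (P : Subgroup G), Commute p e := by
    intro e he p hp
    obtain ⟨v, hv, rfl | rfl⟩ := hmemE.1 he
    · exact h.four_central hA2 hp hv
    · exact (h.b_commute_P hA2 hp).mul_right (h.four_central hA2 hp hv)
  have hE2 : ∀ e ∈ E, e * e = 1 := by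
    intro e he
    obtain ⟨v, hv, rfl | rfl⟩ := hmemE.1 he
    · exact hA2 e hv
    · rw [h.pair.sq h.b_mem hv, h.b_sq, hA2 v hv, one_mul]
  have hkE : ∀ e ∈ E, k * e * k⁻¹ ∈ E := by
    intro e he
    obtain ⟨v, hv, e'⟩ := h.center_form hA2 ((Subgroup.mem_normalizer_iff.1 hkN e).1 (hEP he))
      fun p hp => by
        have hp' : k⁻¹ * p * k ∈ (P : Subgroup G) := (Subgroup.mem_normalizer_iff''.1 hkN p).1 hp
        have := commute_conj k (hEc e he _ hp')
        rwa [show k * (k⁻¹ * p * k) * k⁻¹ = p by group] at this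
    exact hmemE.2 ⟨v, hv, e'⟩
  haveI : IsMulCommutative E := ⟨⟨fun e e' => Subtype.ext (hEc e' e'.2 e (hEP e.2)).eq⟩⟩
  let φ : E →* G := MonoidHom.mk' (fun e => k * (e : G) * k⁻¹ * (e : G)) fun e e' => by
    rw [Subgroup.coe_mul, conj_mul']
    calc k * e * k⁻¹ * (k * e' * k⁻¹) * ((e : G) * e')
        = k * e * k⁻¹ * ((k * e' * k⁻¹) * (e : G)) * e' := by group
      _ = k * e * k⁻¹ * ((e : G) * (k * e' * k⁻¹)) * e' := by
        rw [(hEc e e.2 _ (hEP (hkE _ e'.2))).eq]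
      _ = _ := by group
  have hφ : ∀ e : E, φ e = k * (e : G) * k⁻¹ * (e : G) := fun _ => rfl
  set W := φ.range with hW
  have hWE : W ≤ E := by
    rintro _ ⟨e, rfl⟩
    rw [hφ]
    exact mul_mem (hkE _ e.2) e.2
  have hfree : ∀ w ∈ W, k * w * k⁻¹ = w → w = 1 := by
    rintro _ ⟨e, rfl⟩ hfix
    rw [hφ] at hfix ⊢
    set c := k * (e : G) * k⁻¹ * (e : G) with hc
    have hke : k * (e : G) * k⁻¹ = c * (e : G) := by
      rw [hc, mul_assoc (k * (e : G) * k⁻¹), hE2 _ e.2, mul_one]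
    have hiter : ∀ j : ℕ, k ^ j * (e : G) * (k ^ j)⁻¹ = c ^ j * (e : G) := by
      intro j
      induction j with
      | zero => simp
      | succ j ih =>
        rw [pow_succ', show k * k ^ j * (e : G) * (k * k ^ j)⁻¹ = k * (k ^ j * e * (k ^ j)⁻¹) * k⁻¹ by
          group, ih, conj_mul', ← conj_pow, hfix, hke, ← mul_assoc, ← pow_succ]
    have hcE : c ∈ E := mul_mem (hkE _ e.2) e.2
    have h1 := hiter o
    rw [hko, inv_one, one_mul, mul_one] at h1
    obtain ⟨j, hj⟩ := ho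
    rw [hj, pow_succ, pow_mul, pow_two, hE2 c hcE, one_pow, one_mul] at h1
    exact mul_eq_right.1 h1.symm
  have hstable : ∀ w ∈ W, k * w * k⁻¹ ∈ W := by
    rintro _ ⟨e, rfl⟩
    refine ⟨⟨_, hkE _ e.2⟩, ?_⟩
    rw [hφ, hφ]
    exact (conj_mul' k (k * (e : G) * k⁻¹) (e : G)).symm
  have hb : b ∈ E := Subgroup.mem_sup_left (Subgroup.mem_zpowers b)
  have hbW : b ∉ W := fun hb' => h.b_ne (hfree b hb' hkb)
  have hEcard : Nat.card E = 8 := by
    have hinj : ∀ {v v' : G}, v ∈ A → v' ∈ A → v ≠ b * v' := fun {v v'} hv hv' e => h.b_ne (by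
      exact ((h.pair.uniq (one_mem B) h.b_mem hv hv' (by rw [one_mul]; exact e)).1).symm)
    have hset : (E : Set G) = (A : Set G) ∪ (fun v => b * v) '' (A : Set G) := by
      ext e
      simp only [SetLike.mem_coe, hmemE, Set.mem_union, Set.mem_image]
      constructor
      · rintro ⟨v, hv, rfl | rfl⟩
        · exact .inl hv
        · exact .inr ⟨v, hv, rfl⟩
      · rintro (hv | ⟨v, hv, rfl⟩)
        · exact ⟨e, hv, .inl rfl⟩
        · exact ⟨v, hv, .inr rfl⟩
    have hd : Disjoint (A : Set G) ((fun v => b * v) '' (A : Set G)) :=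
      Set.disjoint_left.2 fun v hv ⟨v', hv', e'⟩ => hinj hv hv' e'.symm
    have := congrArg Set.ncard hset
    rw [Set.ncard_union_eq hd (Set.toFinite _) (Set.toFinite _),
      Set.ncard_image_of_injective _ (mul_right_injective b)] at this
    rw [← Nat.card_coe_set_eq] at this
    rw [← Nat.card_coe_set_eq (A : Set G)] at this
    change Nat.card E = Nat.card A + Nat.card A at this
    omega
  have hWcard : Nat.card W = 4 := by
    have hker : Nat.card φ.ker * Nat.card W = 8 := by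
      rw [hW, ← Subgroup.index_ker, Subgroup.card_mul_index, hEcard]
    have hb2 : 2 ≤ Nat.card φ.ker := by
      have hmem : (⟨b, hb⟩ : E) ∈ φ.ker := by
        rw [MonoidHom.mem_ker, hφ, hkb, h.b_sq]
      have := orderOf_dvd_natCard (⟨⟨b, hb⟩, hmem⟩ : φ.ker)
      rw [Subgroup.orderOf_mk, Subgroup.orderOf_mk, h.b_ord] at this
      exact Nat.le_of_dvd Nat.card_pos this
    set w := k * f * k⁻¹ * f with hw
    have hwW : w ∈ W := ⟨⟨f, Subgroup.mem_sup_right hf⟩, rfl⟩
    have hw1 : w ≠ 1 := fun e => hkf (by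
      rw [hw, mul_eq_one_iff_eq_inv, inv_eq_of_mul_eq_one_right (hA2 f hf)] at e; exact e)
    have h3 : 3 ≤ Nat.card W := by
      have hw2 : k * w * k⁻¹ ≠ w := fun e => hw1 (hfree w hwW e)
      have hsub : ({1, w, k * w * k⁻¹} : Set G) ⊆ (W : Set G) := by
        rintro z (rfl | rfl | rfl)
        exacts [one_mem W, hwW, hstable w hwW]
      have := Set.ncard_le_ncard hsub (Set.toFinite _)
      rw [Set.ncard_insert_of_notMem (by
          simp only [Set.mem_insert_iff, Set.mem_singleton_iff, not_or]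
          exact ⟨hw1.symm, fun e => hw1 (conj_eq_one_iff.1 e.symm)⟩),
        Set.ncard_pair hw2.symm, ← Nat.card_coe_set_eq] at this
      exact this
    have hd : Nat.card W ∣ 8 := Dvd.intro_left _ hker
    obtain ⟨j, hj, hj'⟩ := (Nat.dvd_prime_pow Nat.prime_two).1 (show Nat.card W ∣ 2 ^ 3 by simpa using hd)
    rw [hj'] at hker h3 ⊢
    have : 2 * 2 ^ j ≤ 8 := hker ▸ Nat.mul_le_mul_right _ hb2
    interval_cases j <;> omega
  have hW2 : ∀ w ∈ W, w * w = 1 := fun w hw => hE2 w (hWE hw)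
  have hBW : ∀ {w : G}, w ∈ B → w ∈ W → w = 1 := fun {w} hwB hwW => by
    obtain ⟨v, hv, e⟩ := hmemE.1 (hWE hwW)
    rcases e with rfl | rfl
    · exact h.pair.eq_one_of_mem hwB hv
    · have hv1 : v = 1 := h.pair.eq_one_of_mem (by
        have := mul_mem (inv_mem h.b_mem) hwB
        rwa [inv_mul_cancel_left] at this) hv
      rw [hv1, mul_one] at hwW
      exact absurd hwW hbW
  have hAW : ∀ v ∈ A, ∃ w ∈ W, v = w ∨ v = b * w := by
    have hset : (E : Set G) = (W : Set G) ∪ (fun v => b * v) '' (W : Set G) := by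
      refine (Set.eq_of_subset_of_ncard_le ?_ ?_ (Set.toFinite _)).symm
      · rintro z (hz | ⟨w, hw, rfl⟩)
        exacts [hWE hz, mul_mem hb (hWE hw)]
      · have hd : Disjoint (W : Set G) ((fun v => b * v) '' (W : Set G)) := by
          rw [Set.disjoint_left]
          rintro v hv ⟨v', hv', rfl⟩
          refine hbW ?_
          have := mul_mem hv (inv_mem hv')
          rwa [mul_inv_cancel_right] at this
        rw [Set.ncard_union_eq hd (Set.toFinite _) (Set.toFinite _),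
          Set.ncard_image_of_injective _ (mul_right_injective b)]
        rw [← Nat.card_coe_set_eq, ← Nat.card_coe_set_eq (W : Set G)]
        show Nat.card E ≤ Nat.card W + Nat.card W
        omega
    intro v hv
    have : v ∈ (E : Set G) := Subgroup.mem_sup_right hv
    rw [hset] at this
    rcases this with hz | ⟨w, hw, rfl⟩
    · exact ⟨v, hz, .inl rfl⟩
    · exact ⟨w, hw, .inr rfl⟩
  have hpW : Pair P B W := by
    refine ⟨fun v hv w hw => hEc w (hWE hw) v (h.pair.leA hv), ?_, ?_⟩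
    · rw [eq_bot_iff]
      exact fun w hw => Subgroup.mem_bot.2 (hBW hw.1 hw.2)
    · refine le_antisymm (sup_le h.pair.leA (hWE.trans hEP)) ?_
      rw [← h.pair.sup]
      refine sup_le le_sup_left fun v hv => ?_
      obtain ⟨w, hw, rfl | rfl⟩ := hAW v hv
      · exact Subgroup.mem_sup_right hw
      · exact Subgroup.mul_mem_sup h.b_mem hw
  -- `k` is trivial on `P / W`
  have hproj : ∀ v : B, ∃ v' : B, ∃ w ∈ W, k * (v : G) * k⁻¹ = (v' : G) * w := fun v => by
    obtain ⟨v', hv', w, hw, e⟩ :=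
      hpW.split ((Subgroup.mem_normalizer_iff.1 hkN _).1 (h.pair.leA v.2))
    exact ⟨⟨v', hv'⟩, w, hw, e⟩
  choose ψ hψ using hproj
  have hψu : ∀ (v : B) (v' : G) (w : G), v' ∈ B → w ∈ W → k * (v : G) * k⁻¹ = v' * w →
      (ψ v : G) = v' := fun v v' w hv' hw e => by
    obtain ⟨w', hw', e'⟩ := hψ v
    exact (hpW.uniq (ψ v).2 hv' hw' hw (e'.symm.trans e)).1
  have hψm : ∀ v v', ψ (v * v') = ψ v * ψ v' := fun v v' => by
    obtain ⟨w, hw, e⟩ := hψ v
    obtain ⟨w', hw', e'⟩ := hψ v'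
    refine Subtype.ext (hψu _ _ (w * w') (ψ v * ψ v').2 (mul_mem hw hw') ?_)
    rw [Subgroup.coe_mul, conj_mul', e, e', Subgroup.coe_mul, hpW.mul_mul hw (ψ v').2]
  have hψinj : Function.Injective ψ := fun v v' e => by
    obtain ⟨w, hw, ew⟩ := hψ v
    obtain ⟨w', hw', ew'⟩ := hψ v'
    have h1 : k * ((v : G)⁻¹ * v') * k⁻¹ = w⁻¹ * w' := by
      rw [conj_mul', show k * (v : G)⁻¹ * k⁻¹ = (k * (v : G) * k⁻¹)⁻¹ by group, ew, ew', e]
      group
    have h2' : (v : G)⁻¹ * v' ∈ W := by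
      have hkW : k ∈ Subgroup.normalizer (W : Set G) := BS.mem_normalizer_of_conj_le hstable
      exact (Subgroup.mem_normalizer_iff.1 hkW _).2 (h1 ▸ mul_mem (inv_mem hw) hw')
    exact Subtype.ext (inv_mul_eq_one.1 (hBW (mul_mem (inv_mem v.2) v'.2) h2'))
  let Ψ : MulAut B :=
    MulEquiv.ofBijective (MonoidHom.mk' ψ hψm) (Finite.injective_iff_bijective.1 hψinj)
  have hiter : ∀ (j : ℕ) (v : B), ∃ w ∈ W, k ^ j * (v : G) * (k ^ j)⁻¹ = ((Ψ ^ j) v : B) * w := by
    intro j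
    induction j with
    | zero => exact fun v => ⟨1, one_mem W, by simp⟩
    | succ j ih =>
      intro v
      obtain ⟨w, hw, e⟩ := ih v
      obtain ⟨w', hw', e'⟩ := hψ ((Ψ ^ j) v)
      refine ⟨w' * (k * w * k⁻¹), mul_mem hw' (hstable w hw), ?_⟩
      rw [show k ^ (j + 1) * (v : G) * (k ^ (j + 1))⁻¹ = k * (k ^ j * v * (k ^ j)⁻¹) * k⁻¹ by
        rw [pow_succ']; group, e, conj_mul', e', mul_assoc]
      congr 1
      rw [pow_succ']
      rfl
  have hΨo : Ψ ^ o = 1 := by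
    refine MulEquiv.ext fun v => Subtype.ext ?_
    obtain ⟨w, hw, e⟩ := hiter o v
    rw [hko, inv_one, one_mul, mul_one] at e
    exact (hpW.uniq v.2 ((Ψ ^ o) v).2 (one_mem W) hw (by rw [mul_one]; exact e)).1.symm
  have hΨ : Ψ = 1 := by
    obtain ⟨j, hj⟩ := S3116.result ((P.isPGroup').to_le h.pair.leA) (.inr h.quasiDihedral) Ψ
    rw [← orderOf_eq_one_iff]
    refine Nat.eq_one_of_dvd_coprimes (Nat.Coprime.pow_left j (Nat.coprime_two_left.2 ho))
      (orderOf_dvd_of_pow_eq_one hj) (orderOf_dvd_of_pow_eq_one hΨo)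
  -- the centralized complement
  have hsurj : ∀ c ∈ W, ∃ u ∈ W, k * u * k⁻¹ * u = c := by
    intro c hc
    let χ : W → W := fun u => ⟨k * (u : G) * k⁻¹ * (u : G), mul_mem (hstable _ u.2) u.2⟩
    have hχ : Function.Injective χ := fun u u' e => by
      have e' : k * (u : G) * k⁻¹ * (u : G) = k * (u' : G) * k⁻¹ * (u' : G) := congrArg Subtype.val e
      have hφe : φ ⟨u, hWE u.2⟩ = φ ⟨u', hWE u'.2⟩ := e'
      have h1 : φ (⟨u, hWE u.2⟩ * ⟨u', hWE u'.2⟩) = 1 := by
        rw [map_mul, hφe, hφ]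
        exact hE2 _ (mul_mem (hkE _ (hWE u'.2)) (hWE u'.2))
      rw [hφ, Subgroup.coe_mul, mul_eq_one_iff_eq_inv,
        inv_eq_of_mul_eq_one_right (hW2 _ (mul_mem u.2 u'.2))] at h1
      have h2' := hfree _ (mul_mem u.2 u'.2) h1
      rw [mul_eq_one_iff_eq_inv, inv_eq_of_mul_eq_one_right (hW2 _ u'.2)] at h2'
      exact Subtype.ext h2'
    obtain ⟨u, hu⟩ := (Finite.injective_iff_surjective.1 hχ) ⟨c, hc⟩
    exact ⟨u, u.2, congrArg Subtype.val hu⟩
  have hlift : ∀ v ∈ B, ∃ u ∈ W, Commute k (v * u) := fun v hv => by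
    obtain ⟨c, hc, e⟩ := hψ ⟨v, hv⟩
    rw [show ψ ⟨v, hv⟩ = ⟨v, hv⟩ from DFunLike.congr_fun hΨ ⟨v, hv⟩] at e
    obtain ⟨u, hu, e'⟩ := hsurj c hc
    refine ⟨u, hu, mul_inv_eq_iff_eq_mul.1 ?_⟩
    change k * v * k⁻¹ = v * c at e
    rw [conj_mul', e, mul_assoc, ← e']
    congr 1
    have hc' : Commute (k * u * k⁻¹) u := hEc u (hWE hu) _ (hEP (hWE (hstable u hu)))
    rw [hc'.eq, mul_assoc, hW2 _ (hstable u hu), mul_one]
  set B₀ := (P : Subgroup G) ⊓ Subgroup.centralizer {k} with hB₀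
  have hk₀ : ∀ v ∈ B₀, Commute k v := fun v hv =>
    (Subgroup.mem_centralizer_singleton_iff.1 hv.2).symm
  obtain ⟨ux, hux, hcx⟩ := hlift x h.x_mem
  obtain ⟨uy, huy, hcy⟩ := hlift y h.y_mem
  have hmem₀ : ∀ {v u : G}, v ∈ B → u ∈ W → Commute k (v * u) → v * u ∈ B₀ := fun hv hu hc =>
    ⟨hpW.mul_mem' hv hu, Subgroup.mem_centralizer_singleton_iff.2 hc.symm.eq⟩
  have hdisj : ∀ {w : G}, w ∈ B₀ → w ∈ W → w = 1 := fun hw hwW =>
    hfree _ hwW (by rw [(hk₀ _ hw).eq, mul_inv_cancel_right])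
  have hp₀ : Pair P B₀ W := by
    refine ⟨fun v hv w hw => hEc w (hWE hw) v hv.1, ?_, ?_⟩
    · rw [eq_bot_iff]
      exact fun w hw => Subgroup.mem_bot.2 (hdisj hw.1 hw.2)
    · refine le_antisymm (sup_le inf_le_left hpW.leB) ?_
      rw [← hpW.sup]
      refine sup_le (fun v hv => ?_) le_sup_right
      obtain ⟨u, hu, hc⟩ := hlift v hv
      rw [show v = v * u * u⁻¹ by rw [mul_inv_cancel_right]]
      exact Subgroup.mul_mem_sup (hmem₀ hv hu hc) (inv_mem hu)
  have hev : ∀ {w : G}, w ∈ W → ∀ m : ℕ, w ^ (2 * m) = 1 := fun hw m => by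
    rw [pow_mul, pow_two, hW2 _ hw, one_pow]
  obtain ⟨m, hm⟩ : ∃ m, 2 ^ (n - 1) = 2 * m :=
    ⟨2 ^ (n - 2), by rw [← pow_succ']; congr 1; have := h.hn; omega⟩
  have hN : ((2 ^ (n - 1) : ℕ) : ℤ) = 2 * qq n := by
    rw [Invol.qq, ← pow_succ', show n - 2 + 1 = n - 1 by have := h.hn; omega]
    push_cast
    rfl
  have hxN : (x * ux) ^ (2 ^ (n - 1)) = b := by
    rw [hpW.pow h.x_mem hux, hm, hev hux, mul_one, ← hm, h.b_eq, ← hN, zpow_natCast]
  refine ⟨B₀, W, x * ux, y * uy, k,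
    { semi :=
      { pair := hp₀, x_mem := hmem₀ h.x_mem hux hcx, y_mem := hmem₀ h.y_mem huy hcy, hn := h.hn
        card := ?_, ox := ?_, oy := ?_, conj := ?_
        b_eq := ?_ }
      card := hWcard, sq := hW2, norm := hkN, fixB := hk₀, stable := hstable, free := hfree }⟩
  · have h1 := pair_card hp₀
    rw [pair_card h.pair, hA, h.card, hWcard] at h1
    omega
  · have := orderOf_eq_prime_pow (p := 2) (n := n - 1) (x := x * ux) (hxN.symm ▸ h.b_ne) (by
      rw [pow_succ, pow_mul, hxN, pow_two, h.b_sq])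
    rwa [show n - 1 + 1 = n by have := h.hn; omega] at this
  · refine orderOf_two (by rw [hpW.sq h.y_mem huy, h.y_sq, hW2 _ huy, one_mul]) fun e1 => ?_
    have := ((hpW.eq_one_iff h.y_mem huy).1 e1).1
    exact h.y_not_C (this ▸ one_mem _)
  · have hodd : ∃ j, 2 ^ (n - 1) - 1 = 2 * j + 1 :=
      ⟨m - 1, by have : 0 < 2 ^ (n - 1) := pow_pos two_pos _; omega⟩
    obtain ⟨j, hj⟩ := hodd
    rw [mul_inv_rev, hpW.pow h.x_mem hux, ← h.conj, hj, pow_succ, hev hux, one_mul,
      inv_eq_of_mul_eq_one_right (hW2 _ huy)]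
    have c1 := (hEc uy (hWE huy) x (h.pair.leA h.x_mem)).eq
    have c2 := (hEc uy (hWE huy) ux (hpW.leB hux)).eq
    have c3 := (hpW.comm (y⁻¹) (inv_mem h.y_mem) ux hux).eq
    calc y * uy * (x * ux) * (uy * y⁻¹) = y * (uy * x) * (ux * uy) * y⁻¹ := by group
      _ = y * (x * uy) * (uy * ux) * y⁻¹ := by rw [c1, c2]
      _ = y * x * (uy * uy) * (ux * y⁻¹) := by group
      _ = y * x * y⁻¹ * ux := by rw [hW2 _ huy, mul_one, ← c3, ← mul_assoc]
  · rw [← hN, zpow_natCast, hxN]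

end Semi

end Cfsg.Agent.SDFactor
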