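import Cfsg.Agent.Lib.Fus.SDFactor.BigSplit
import Cfsg.Agent.Lib.Fus.SDFactor.FourBase
import Cfsg.Agent.Lib.Transfer.Burnside
import Cfsg.Agent.Lib.Invol.ZStar

/-!
# A four group and a quasi-dihedral factor can be chosen strongly closed
-/

set_option autoImplicit false
set_option linter.unusedSectionVars false
set_option linter.style.haveILetI false

namespace Cfsg.Agent.SDFactor

open Cfsg Cfsg.Agent.ProdFus Cfsg.Agent.ProdFus.Split

universe u

variable {G : Type u} [Group G] [Finite G]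

/-- An isolated involution is central when the odd core is trivial. -/
theorem mem_center_of_iso (hO : Cfsg.oddCore G = ⊥) {P : Sylow 2 G} {b : G} (hb : b ∈ (P : Subgroup G))
    (hb2 : orderOf b = 2) (hiso : ∀ g : G, g * b * g⁻¹ ∈ (P : Subgroup G) → g * b * g⁻¹ = b) :
    b ∈ Subgroup.center G := by
  obtain ⟨N, hN, hodd, hc⟩ := ZStar.exists_odd_normal (ZStar.isIsolated_of_sylow hb hb2 hiso)
  have hN1 : N = ⊥ := by
    rw [eq_bot_iff, ← hO]
    exact Grp.le_pPrimeCore (p := 2) hN (Nat.coprime_two_right.2 hodd)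
  rw [Subgroup.mem_center_iff]
  intro g
  have := hc g
  rw [hN1, Subgroup.mem_bot, mul_inv_eq_one, mul_inv_eq_iff_eq_mul] at this
  exact this.symm

namespace FourMove

variable {P : Sylow 2 G} {B W : Subgroup G} {n : ℕ} {x y b k : G} (h : FourMove P B W n x y b k)
include h

theorem central {p w : G} (hp : p ∈ (P : Subgroup G)) (hw : w ∈ W) : Commute p w :=
  h.semi.four_central h.sq hp hw

theorem central_b {p : G} (hp : p ∈ (P : Subgroup G)) : Commute p b :=
  h.semi.b_commute_P h.sq hp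

theorem central_bw {p w : G} (hp : p ∈ (P : Subgroup G)) (hw : w ∈ W) : Commute p (b * w) :=
  (h.central_b hp).mul_right (h.central hp hw)

theorem bw_invol {w : G} (hw : w ∈ W) : b * w * (b * w) = 1 := by
  rw [h.semi.pair.sq h.semi.b_mem hw, h.semi.b_sq, h.sq w hw, one_mul]

theorem kk_ne {w : G} (hw : w ∈ W) (hw1 : w ≠ 1) : k * (k * w * k⁻¹) * k⁻¹ ≠ w := fun e => by
  have hkw := h.stable w hw
  have h1 : k * (k * w * k⁻¹ * w) * k⁻¹ = k * w * k⁻¹ * w := by
    rw [conj_mul', e, ← (h.central (h.semi.pair.leB hkw) hw).eq]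
  have h2 := h.free _ (mul_mem hkw hw) h1
  refine hw1 (h.free w hw ?_)
  rw [mul_eq_one_iff_eq_inv.1 h2, inv_eq_of_mul_eq_one_right (h.sq w hw)]

/-- Powers of `k` move the involutions of `W` transitively. -/
theorem reach {w w' : G} (hw : w ∈ W) (hw1 : w ≠ 1) (hw' : w' ∈ W) (hw'1 : w' ≠ 1) :
    ∃ d ∈ Subgroup.normalizer (P : Set G), (∀ v ∈ B, Commute d v) ∧ d * w * d⁻¹ = w' := by
  set w₂ := k * w * k⁻¹ with hw₂
  set w₃ := k * w₂ * k⁻¹ with hw₃
  have h2 := h.stable w hw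
  have h3 := h.stable w₂ h2
  have n1 : w₂ ≠ 1 := fun e => hw1 (conj_eq_one_iff.1 e)
  have n2 : w₃ ≠ 1 := fun e => n1 (conj_eq_one_iff.1 e)
  have n3 : w₂ ≠ w := fun e => hw1 (h.free w hw e)
  have n4 : w₃ ≠ w₂ := fun e => n1 (h.free w₂ h2 e)
  have n5 : w₃ ≠ w := h.kk_ne hw hw1
  have hset : ({1, w, w₂, w₃} : Set G) = (W : Set G) := by
    refine Set.eq_of_subset_of_ncard_le ?_ ?_ (Set.toFinite _)
    · rintro z (rfl | rfl | rfl | rfl)
      exacts [one_mem W, hw, h2, h3]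
    · rw [Set.ncard_insert_of_notMem (by simp [hw1.symm, n1.symm, n2.symm]),
        Set.ncard_insert_of_notMem (by simp [n3.symm, n5.symm]), Set.ncard_pair n4.symm,
        ← Nat.card_coe_set_eq]
      exact h.card.le
  have hmem : w' ∈ ({1, w, w₂, w₃} : Set G) := hset.symm ▸ hw'
  rcases hmem with e | e | e | e
  · exact absurd e hw'1
  · exact ⟨1, one_mem _, fun v _ => Commute.one_left v, by rw [e]; group⟩
  · exact ⟨k, h.norm, h.fixB, e.symm⟩
  · refine ⟨k * k, mul_mem h.norm h.norm, fun v hv => (h.fixB v hv).mul_left (h.fixB v hv), ?_⟩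
    rw [e, hw₃, hw₂]; group

theorem conj_b_iff {d : G} (hd : ∀ v ∈ B, Commute d v) : d * b * d⁻¹ = b := by
  rw [(hd b h.semi.b_mem).eq, mul_inv_cancel_right]

theorem isConj_W {w w' : G} (hw : w ∈ W) (hw1 : w ≠ 1) (hw' : w' ∈ W) (hw'1 : w' ≠ 1) :
    IsConj w w' ∧ IsConj (b * w) (b * w') ∧ IsConj (y * w) (y * w') := by
  obtain ⟨d, -, hdB, e⟩ := h.reach hw hw1 hw' hw'1
  refine ⟨isConj_iff.2 ⟨d, e⟩, isConj_iff.2 ⟨d, ?_⟩, isConj_iff.2 ⟨d, ?_⟩⟩
  · rw [conj_mul', h.conj_b_iff hdB, e]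
  · rw [conj_mul', (hdB y h.semi.y_mem).eq, mul_inv_cancel_right, e]

theorem normalizer_fix {d : G} (hd : d ∈ Subgroup.normalizer (P : Set G)) : d * b * d⁻¹ = b :=
  h.semi.fix_b h.sq ((Subgroup.mem_normalizer_iff.1 hd x).1 (h.semi.pair.leA h.semi.x_mem))

theorem not_b_w {w : G} (hw : w ∈ W) : ¬ IsConj b w := fun hc => by
  haveI : Fact (Nat.Prime 2) := ⟨Nat.prime_two⟩
  obtain ⟨g, e⟩ := isConj_iff.1 hc
  obtain ⟨d, hd, e'⟩ := Transfer.exists_normalizer_conj_elem P (fun p hp => h.central_b hp) (g := g)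
    (by rw [e]; exact fun p hp => h.central hp hw)
  rw [e, h.normalizer_fix hd] at e'
  exact h.semi.b_ne (h.semi.pair.eq_one_of_mem h.semi.b_mem (e'.symm ▸ hw))

theorem not_b_bw {w : G} (hw : w ∈ W) (hw1 : w ≠ 1) : ¬ IsConj b (b * w) := fun hc => by
  haveI : Fact (Nat.Prime 2) := ⟨Nat.prime_two⟩
  obtain ⟨g, e⟩ := isConj_iff.1 hc
  obtain ⟨d, hd, e'⟩ := Transfer.exists_normalizer_conj_elem P (fun p hp => h.central_b hp) (g := g)
    (by rw [e]; exact fun p hp => h.central_bw hp hw)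
  rw [e, h.normalizer_fix hd] at e'
  exact hw1 (mul_eq_left.1 e'.symm)

theorem not_w_bw {w w' : G} (hw : w ∈ W) (hw1 : w ≠ 1) (hw' : w' ∈ W) (hw'1 : w' ≠ 1) :
    ¬ IsConj w (b * w') := fun hc => by
  haveI : Fact (Nat.Prime 2) := ⟨Nat.prime_two⟩
  obtain ⟨g, e⟩ := isConj_iff.1 hc
  obtain ⟨d, hd, e'⟩ := Transfer.exists_normalizer_conj_elem P (fun p hp => h.central hp hw) (g := g)
    (by rw [e]; exact fun p hp => h.central_bw hp hw')
  rw [e] at e'
  obtain ⟨c, hc', -, ec⟩ := h.reach hw' hw'1 hw hw1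
  have h1 : d * c * w' * (d * c)⁻¹ = b * w' := by
    rw [show d * c * w' * (d * c)⁻¹ = d * (c * w' * c⁻¹) * d⁻¹ by group, ec, e']
  have h2 : d * c * (b * w') * (d * c)⁻¹ = w' := by
    rw [conj_mul', h.normalizer_fix (mul_mem hd hc'), h1, ← mul_assoc, h.semi.b_sq, one_mul]
  exact h.semi.b_ne (mul_eq_right.1 (eq_of_swap (mul_mem hd hc') (fun p hp => h.central hp hw') h1 h2).symm)

/-- The components of an involution. -/
theorem invol_parts {v w : G} (hv : v ∈ B) (hw : w ∈ W) (e : v * w * (v * w) = 1) :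
    v = 1 ∨ v = b ∨ (v ∉ Subgroup.zpowers x ∧ orderOf v = 2 ∧ IsConj (v * w) (y * w)) := by
  rw [h.semi.pair.sq hv hw, h.sq w hw, mul_one] at e
  by_cases hv1 : v = 1
  · exact .inl hv1
  rcases h.semi.invol_cases hv (orderOf_two e hv1) with rfl | ⟨hC, p, hp, ep⟩
  · exact .inr (.inl rfl)
  · refine .inr (.inr ⟨hC, orderOf_two e hv1, isConj_iff.2 ⟨p, ?_⟩⟩)
    rw [conj_mul', ep, (h.semi.pair.comm p hp w hw).eq, mul_inv_cancel_right]

/-- A product with an element of the coset of `y` moves into the centre. -/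
theorem exists_central (h2 : ∀ H : Subgroup G, H.Normal → H.index ≠ 2) {w : G} (hw : w ∈ W) :
    ∃ g : G, (∀ p ∈ (P : Subgroup G), Commute p (y * w) → g * p * g⁻¹ ∈ (P : Subgroup G)) ∧
      ∃ β, (β = 1 ∨ β = b) ∧ ∃ v ∈ W, g * (y * w) * g⁻¹ = β * v := by
  have hyy : y * w * (y * w) = 1 := by
    rw [h.semi.pair.sq h.semi.y_mem hw, h.semi.y_sq, h.sq w hw, one_mul]
  have hne : y * w ≠ 1 := fun e => h.semi.y_not_C
    (((h.semi.pair.eq_one_iff h.semi.y_mem hw).1 e).1 ▸ one_mem _)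
  obtain ⟨g, hgT, -, hgM⟩ := exists_move h2 P (sup_relIndex_two h.semi.pair h.semi.C_le h.semi.index_C)
    (orderOf_two hyy hne) (T := (P : Subgroup G) ⊓ Subgroup.centralizer {y * w})
    (P.isPGroup'.to_le inf_le_left) fun p hp => Subgroup.mem_centralizer_singleton_iff.1 hp.2
  refine ⟨g, fun p hp hc => hgT p ⟨hp, Subgroup.mem_centralizer_singleton_iff.2 hc.eq⟩, ?_⟩
  obtain ⟨β, hβ, v, hv, e⟩ := h.semi.pair.mem_sup h.semi.C_le hgM
  refine ⟨β, h.semi.C_invol hβ ?_, v, hv, e⟩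
  have h1 : β * v * (β * v) = 1 := by rw [← e, ← conj_mul', hyy, mul_one, mul_inv_cancel]
  rwa [h.semi.pair.sq (h.semi.C_le hβ) hv, h.sq v hv, mul_one] at h1

/-- The centre comes from the elementary subgroup of `y`. -/
theorem onto_center {g : G} (hg : ∀ p ∈ (P : Subgroup G), Commute p y → g * p * g⁻¹ ∈ (P : Subgroup G))
    {e : G} (he : ∀ p ∈ (P : Subgroup G), Commute p e) (heP : e ∈ (P : Subgroup G)) (he2 : e * e = 1) :
    ∃ β, (β = 1 ∨ β = b ∨ β = y ∨ β = b * y) ∧ ∃ v ∈ W, g * (β * v) * g⁻¹ = e := by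
  classical
  have hp := h.semi.pair
  have hby := h.semi.b_central y h.semi.y_mem
  set U : Set G := (fun q : G × G => q.1 * q.2) '' (({1, b, y, b * y} : Set G) ×ˢ (W : Set G)) with hU
  have hmemB : ∀ {β : G}, β ∈ ({1, b, y, b * y} : Set G) → β ∈ B := by
    rintro β (rfl | rfl | rfl | rfl)
    exacts [one_mem B, h.semi.b_mem, h.semi.y_mem, mul_mem h.semi.b_mem h.semi.y_mem]
  have hcardU : U.ncard = 16 := by
    rw [hU, Set.InjOn.ncard_image, Set.ncard_prod, Set.ncard_insert_of_notMem (by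
      simp only [Set.mem_insert_iff, Set.mem_singleton_iff, not_or]
      refine ⟨h.semi.b_ne.symm, fun e => h.semi.y_not_C (e ▸ one_mem _), fun e => h.semi.y_not_C ?_⟩
      rw [eq_inv_of_mul_eq_one_right e.symm]; exact inv_mem h.semi.b_zpow),
      Set.ncard_insert_of_notMem (by
      simp only [Set.mem_insert_iff, Set.mem_singleton_iff, not_or]
      exact ⟨fun e => h.semi.y_not_C (e ▸ h.semi.b_zpow), fun e => h.semi.y_not_C (by
        rw [mul_eq_left.1 e.symm]; exact one_mem _)⟩),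
      Set.ncard_pair (fun e => h.semi.b_ne (mul_eq_right.1 e.symm)), ← Nat.card_coe_set_eq]
    · change 4 * Nat.card W = 16
      rw [h.card]
    · rintro ⟨p, q⟩ ⟨hp', hq⟩ ⟨p', q'⟩ ⟨hp'', hq'⟩ e'
      obtain ⟨rfl, rfl⟩ := hp.uniq (hmemB hp') (hmemB hp'') hq hq' e'
      rfl
  have hcommU : ∀ {u v : G}, u ∈ U → v ∈ U → Commute u v := by
    rintro _ _ ⟨⟨p, q⟩, ⟨hp', hq⟩, rfl⟩ ⟨⟨p', q'⟩, ⟨hp'', hq'⟩, rfl⟩
    refine (hp.commute_iff (hmemB hp') hq (hmemB hp'') hq').2 ⟨?_, h.central (hp.leB hq) hq'⟩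
    rcases hp' with rfl | rfl | rfl | rfl <;> rcases hp'' with rfl | rfl | rfl | rfl <;>
      first
        | exact Commute.one_left _ | exact Commute.one_right _ | exact Commute.refl _
        | exact hby | exact hby.symm
        | exact (Commute.refl _).mul_right hby.symm | exact hby.mul_right (Commute.refl _)
        | exact (Commute.refl _).mul_left hby | exact hby.symm.mul_left (Commute.refl _)
  have hUy : y ∈ U := ⟨(y, 1), ⟨by simp, one_mem W⟩, by simp⟩
  have hU2 : ∀ {u : G}, u ∈ U → u * u = 1 := by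
    rintro _ ⟨⟨p, q⟩, ⟨hp', hq⟩, rfl⟩
    rw [hp.sq (hmemB hp') hq, h.sq q hq, mul_one]
    rcases hp' with rfl | rfl | rfl | rfl
    · exact one_mul 1
    · exact h.semi.b_sq
    · exact h.semi.y_sq
    · show b * y * (b * y) = 1
      rw [hby.mul_mul_mul_comm, h.semi.b_sq, h.semi.y_sq, one_mul]
  have hUP : ∀ {u : G}, u ∈ U → u ∈ (P : Subgroup G) := by
    rintro _ ⟨⟨p, q⟩, ⟨hp', hq⟩, rfl⟩
    exact hp.mul_mem' (hmemB hp') hq
  set K : Set G := (fun u => g * u * g⁻¹) '' U with hK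
  have hKcard : K.ncard = 16 := by
    rw [hK, Set.ncard_image_of_injective _ fun u v e' => mul_left_cancel (mul_right_cancel e'), hcardU]
  by_contra hcon
  have heK : e ∉ K := by
    rintro ⟨_, ⟨⟨p, q⟩, ⟨hp', hq⟩, rfl⟩, e'⟩
    exact hcon ⟨p, by simpa using hp', q, hq, e'⟩
  -- an elementary subgroup of the Sylow subgroup has at most sixteen elements
  set L : Set G := insert e K with hL
  have hLcard : L.ncard = 17 := by rw [hL, Set.ncard_insert_of_notMem heK, hKcard]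
  have hLP : ∀ {z : G}, z ∈ L → z ∈ (P : Subgroup G) := by
    rintro z (rfl | ⟨u, hu, rfl⟩)
    · exact heP
    · exact hg u (hUP hu) (hcommU hu hUy)
  have hL2 : ∀ {z : G}, z ∈ L → z * z = 1 := by
    rintro z (rfl | ⟨u, hu, rfl⟩)
    · exact he2
    · rw [← conj_mul', hU2 hu, mul_one, mul_inv_cancel]
  have hLc : ∀ {z z' : G}, z ∈ L → z' ∈ L → Commute z z' := by
    rintro z z' (rfl | ⟨u, hu, rfl⟩) hz'
    · exact (he z' (hLP hz')).symm
    rcases hz' with rfl | ⟨v, hv, rfl⟩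
    · exact he _ (hLP (.inr ⟨u, hu, rfl⟩))
    · exact commute_conj g (hcommU hu hv)
  have hbound : L.ncard ≤ 16 := by
    obtain ⟨c, hcov⟩ : ∃ c : G, ∀ z ∈ L, ∀ v ∈ B, ∀ q ∈ W, z = v * q →
        v = 1 ∨ v = b ∨ v = c ∨ v = b * c := by
      by_cases hex : ∃ z ∈ L, ∃ v ∈ B, ∃ q ∈ W, z = v * q ∧ v ∉ Subgroup.zpowers x
      · obtain ⟨z, hz, v, hv, q, hq, ez, hC⟩ := hex
        refine ⟨v, fun z' hz' v' hv' q' hq' ez' => ?_⟩
        have hc := hLc hz hz'
        rw [ez, ez'] at hc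
        exact h.semi.centralizer_cases hv hC hv' ((hp.commute_iff hv hq hv' hq').1 hc).1
      · refine ⟨1, fun z hz v hv q hq ez => ?_⟩
        have hC : v ∈ Subgroup.zpowers x := by_contra fun hC => hex ⟨z, hz, v, hv, q, hq, ez, hC⟩
        have h2 := hL2 hz
        rw [ez, hp.sq hv hq, h.sq q hq, mul_one] at h2
        rcases h.semi.C_invol hC h2 with e' | e'
        · exact .inl e'
        · exact .inr (.inl e')
    have hsub : L ⊆ (fun q : G × G => q.1 * q.2) '' (({1, b, c, b * c} : Set G) ×ˢ (W : Set G)) := by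
      intro z hz
      obtain ⟨v, hv, q, hq, ez⟩ := hp.split (hLP hz)
      exact ⟨(v, q), ⟨by simpa using hcov z hz v hv q hq ez, hq⟩, ez.symm⟩
    refine (Set.ncard_le_ncard hsub (Set.toFinite _)).trans ((Set.ncard_image_le (Set.toFinite _)).trans ?_)
    rw [Set.ncard_prod, ← Nat.card_coe_set_eq (W : Set G)]
    change _ * Nat.card W ≤ 16
    rw [h.card]
    have h3 := Set.ncard_insert_le (1 : G) {b, c, b * c}
    have h4 := Set.ncard_insert_le b ({c, b * c} : Set G)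
    have h5 := Set.ncard_insert_le c ({b * c} : Set G)
    rw [Set.ncard_singleton] at h5
    omega
  omega

/-- Every involution outside `⟨x⟩ W` has the class of `y` or of `y w`. -/
theorem y_class {w w₀ : G} (hw : w ∈ W) (hw₀ : w₀ ∈ W) (hw₀1 : w₀ ≠ 1) :
    IsConj (y * w) y ∨ IsConj (y * w) (y * w₀) := by
  by_cases hw1 : w = 1
  · exact .inl (by rw [hw1, mul_one])
  · exact .inr (h.isConj_W hw hw1 hw₀ hw₀1).2.2

/-- The classes on the coset of `y`. -/
theorem classes (h2 : ∀ H : Subgroup G, H.Normal → H.index ≠ 2) (hO : Cfsg.oddCore G = ⊥)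
    (hZ : Subgroup.center G = ⊥) :
    IsConj y b ∧ ∀ w ∈ W, w ≠ 1 → ∀ w' ∈ W, w' ≠ 1 → IsConj (y * w) (b * w') := by
  haveI : Fact (Nat.Prime 2) := ⟨Nat.prime_two⟩
  have hp := h.semi.pair
  obtain ⟨w₀, hw₀, hw₀1⟩ : ∃ w ∈ W, w ≠ 1 := by
    by_contra hc
    push Not at hc
    have : W = ⊥ := le_bot_iff.1 fun w hw => Subgroup.mem_bot.2 (hc w hw)
    have h4 := h.card
    rw [this, Subgroup.card_bot] at h4
    omega
  -- `b` is fused to the coset of `y`
  have hfused : IsConj y b ∨ IsConj (y * w₀) b := by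
    obtain ⟨g, hg, hne⟩ : ∃ g : G, g * b * g⁻¹ ∈ (P : Subgroup G) ∧ g * b * g⁻¹ ≠ b := by
      by_contra hc
      push Not at hc
      have := mem_center_of_iso hO (hp.leA h.semi.b_mem) h.semi.b_ord hc
      rw [hZ, Subgroup.mem_bot] at this
      exact h.semi.b_ne this
    obtain ⟨v, hv, w, hw, e⟩ := hp.split hg
    have hc : IsConj b (v * w) := isConj_iff.2 ⟨g, e⟩
    rcases h.invol_parts hv hw (by rw [← e, ← conj_mul', h.semi.b_sq, mul_one, mul_inv_cancel]) with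
      rfl | rfl | ⟨-, -, hy⟩
    · rw [one_mul] at hc
      exact absurd hc (h.not_b_w hw)
    · by_cases hw1 : w = 1
      · rw [hw1, mul_one] at e; exact absurd e hne
      · exact absurd hc (h.not_b_bw hw hw1)
    · rcases h.y_class hw hw₀ hw₀1 with e' | e'
      · exact .inl ((hc.trans (hy.trans e')).symm)
      · exact .inr ((hc.trans (hy.trans e')).symm)
  obtain ⟨g, hg, β₀, hβ₀, v₀, hv₀, eg⟩ := h.exists_central h2 (one_mem W)
  rw [mul_one] at hg eg
  have honto : ∀ {e : G} {w : G}, w ∈ W → (e = w ∨ e = b * w) →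
      ∃ β, (β = 1 ∨ β = b ∨ β = y ∨ β = b * y) ∧ ∃ v ∈ W, g * (β * v) * g⁻¹ = e := by
    rintro e w hw (rfl | rfl)
    · exact h.onto_center hg (fun p hp' => h.central hp' hw) (hp.leB hw) (h.sq e hw)
    · exact h.onto_center hg (fun p hp' => h.central_bw hp' hw) (hp.mul_mem' h.semi.b_mem hw)
        (h.bw_invol hw)
  have hcls : ∀ {β v z : G}, (β = 1 ∨ β = b ∨ β = y ∨ β = b * y) → v ∈ W → IsConj (β * v) z →
      (β = 1 ∨ β = b) ∨ IsConj y z ∨ IsConj (y * w₀) z := by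
    intro β v z hβ hv hz
    have key : IsConj (y * v) z → IsConj y z ∨ IsConj (y * w₀) z := fun h' => by
      rcases h.y_class hv hw₀ hw₀1 with e' | e'
      · exact .inl (e'.symm.trans h')
      · exact .inr (e'.symm.trans h')
    rcases hβ with rfl | rfl | rfl | rfl
    · exact .inl (.inl rfl)
    · exact .inl (.inr rfl)
    · exact .inr (key hz)
    · obtain ⟨q, hq, -, hqy⟩ := h.semi.exists_root
      refine .inr (key (IsConj.trans (isConj_iff.2 ⟨q, ?_⟩) hz))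
      rw [conj_mul', hqy y h.semi.y_mem h.semi.oy (fun e' => h.semi.y_not_C (e' ▸ h.semi.b_zpow)),
        (hp.comm q (h.semi.C_le hq) v hv).eq, mul_inv_cancel_right]
  -- `g` normalizes `W`
  have hgW : ∀ w ∈ W, ∃ v ∈ W, g * v * g⁻¹ = w := by
    rcases (em (IsConj y w₀ ∨ IsConj (y * w₀) w₀)) with hX | hX
    swap
    · intro w hw
      by_cases hw1 : w = 1
      · exact ⟨1, one_mem W, by rw [hw1]; group⟩
      obtain ⟨β, hβ, v, hv, e⟩ := honto hw (.inl rfl)
      have hc : IsConj (β * v) w₀ := (isConj_iff.2 ⟨g, e⟩ : IsConj (β * v) w).trans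
        (h.isConj_W hw hw1 hw₀ hw₀1).1
      rcases hcls hβ hv hc with (rfl | rfl) | h' | h'
      · exact ⟨v, hv, by rw [← e, one_mul]⟩
      · by_cases hv1 : v = 1
        · rw [hv1, mul_one] at hc; exact absurd hc (h.not_b_w hw₀)
        · exact absurd hc.symm (h.not_w_bw hw₀ hw₀1 hv hv1)
      · exact absurd (.inl h') hX
      · exact absurd (.inr h') hX
    -- neither class is that of `b w`
    have hnC : ¬ IsConj y (b * w₀) ∧ ¬ IsConj (y * w₀) (b * w₀) := by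
      have n1 := h.not_b_w hw₀
      have n2 := h.not_b_bw hw₀ hw₀1
      have n3 := h.not_w_bw hw₀ hw₀1 hw₀ hw₀1
      rcases hX with hX | hX <;> rcases hfused with hF | hF
      · exact absurd (hF.symm.trans hX) n1
      · exact ⟨fun e => n3 (hX.symm.trans e), fun e => n2 (hF.symm.trans e)⟩
      · exact ⟨fun e => n2 (hF.symm.trans e), fun e => n3 (hX.symm.trans e)⟩
      · exact absurd (hF.symm.trans hX) n1
    have hbw : ∀ w ∈ W, w ≠ 1 → ∃ v ∈ W, g * (b * v) * g⁻¹ = b * w := by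
      intro w hw hw1
      obtain ⟨β, hβ, v, hv, e⟩ := honto hw (.inr rfl)
      have hc : IsConj (β * v) (b * w₀) := (isConj_iff.2 ⟨g, e⟩ : IsConj (β * v) (b * w)).trans
        (h.isConj_W hw hw1 hw₀ hw₀1).2.1
      rcases hcls hβ hv hc with (rfl | rfl) | h' | h'
      · rw [one_mul] at hc
        by_cases hv1 : v = 1
        · exact absurd (isConj_one_right.1 (hv1 ▸ hc)) fun e' => by
            rw [h.semi.pair.eq_one_iff h.semi.b_mem hw₀] at e'
            exact h.semi.b_ne e'.1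
        · exact absurd hc (h.not_w_bw hv hv1 hw₀ hw₀1)
      · exact ⟨v, hv, e⟩
      · exact absurd h' hnC.1
      · exact absurd h' hnC.2
    intro w hw
    by_cases hw1 : w = 1
    · exact ⟨1, one_mem W, by rw [hw1]; group⟩
    have hkw := h.stable w hw
    have hne : k * w * k⁻¹ ≠ 1 := fun e => hw1 (conj_eq_one_iff.1 e)
    have hne' : w * (k * w * k⁻¹) ≠ 1 := fun e => hw1 (h.free w hw (by
      rw [← eq_inv_of_mul_eq_one_right e |>.symm, inv_eq_of_mul_eq_one_right (h.sq w hw)]))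
    obtain ⟨v, hv, e⟩ := hbw _ (mul_mem hw hkw) hne'
    obtain ⟨v', hv', e'⟩ := hbw _ hkw hne
    refine ⟨v * v', mul_mem hv hv', ?_⟩
    calc g * (v * v') * g⁻¹ = g * ((b * v) * (b * v')) * g⁻¹ := by
          rw [hp.mul_mul hv h.semi.b_mem, h.semi.b_sq, one_mul]
      _ = (b * (w * (k * w * k⁻¹))) * (b * (k * w * k⁻¹)) := by rw [conj_mul', e, e']
      _ = w := by
          rw [hp.mul_mul (mul_mem hw hkw) h.semi.b_mem, h.semi.b_sq, one_mul, mul_assoc,
            h.sq _ hkw, mul_one]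
  have hgW' : ∀ v ∈ W, g * v * g⁻¹ ∈ W := by
    have hle : W ≤ W.map (MulAut.conj g).toMonoidHom := fun w hw => by
      obtain ⟨v, hv, e⟩ := hgW w hw
      exact ⟨v, hv, e⟩
    have heq := Subgroup.eq_of_le_of_card_ge hle (by
      rw [Subgroup.card_map_of_injective (MulEquiv.injective _)])
    exact fun v hv => heq.symm.le ⟨v, hv, rfl⟩
  have hgy : IsConj y (β₀ * v₀) := isConj_iff.2 ⟨g, eg⟩
  -- so `y` goes to `b`
  have hv₀1 : β₀ * v₀ = b := by
    by_contra hne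
    have hv1 : v₀ ≠ 1 := fun e => by
      rw [e, mul_one] at eg hne
      rcases hβ₀ with rfl | rfl
      · exact h.semi.y_not_C (conj_eq_one_iff.1 eg ▸ one_mem _)
      · exact hne rfl
    have hnX : ¬ IsConj y b := fun e => by
      rcases hβ₀ with rfl | rfl
      · rw [one_mul] at hgy; exact h.not_b_w hv₀ (e.symm.trans hgy)
      · exact h.not_b_bw hv₀ hv1 (e.symm.trans hgy)
    have hX' := hfused.resolve_left hnX
    have hv₁ : ∀ v ∈ W, v ≠ 1 → IsConj (β₀ * (v₀ * (g * v * g⁻¹))) b := fun v hv hv1' => by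
      refine IsConj.trans (isConj_iff.2 ⟨g, ?_⟩ : IsConj (y * v) _).symm
        ((h.isConj_W hv hv1' hw₀ hw₀1).2.2.trans hX')
      rw [conj_mul', eg, mul_assoc]
    obtain ⟨v, hv, ev⟩ := hgW v₀ hv₀
    have hkv := h.stable v₀ hv₀
    obtain ⟨v', hv', ev'⟩ := hgW _ hkv
    rcases hβ₀ with rfl | rfl
    · have h1 := hv₁ v hv (fun e => hv1 (by rw [← ev, e]; group))
      rw [ev, h.sq _ hv₀, one_mul] at h1
      exact h.semi.b_ne (isConj_one_right.1 h1)
    · have h1 := hv₁ v' hv' (fun e => hv1 (conj_eq_one_iff.1 (by rw [← ev', e]; group)))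
      rw [ev'] at h1
      refine h.not_b_bw (mul_mem hv₀ hkv) (fun e => hv1 (h.free v₀ hv₀ ?_)) h1.symm
      rw [← eq_inv_of_mul_eq_one_right e |>.symm, inv_eq_of_mul_eq_one_right (h.sq v₀ hv₀)]
  rw [hv₀1] at eg
  refine ⟨isConj_iff.2 ⟨g, eg⟩, fun w hw hw1 w' hw' hw'1 => ?_⟩
  have hgw := hgW' w hw
  refine IsConj.trans (isConj_iff.2 ⟨g, by rw [conj_mul', eg]⟩)
    (h.isConj_W hgw (fun e => hw1 (conj_eq_one_iff.1 e)) hw' hw'1).2.1

/-- The four group and the quasi-dihedral factor have closed involutions. -/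
theorem involClosed (h2 : ∀ H : Subgroup G, H.Normal → H.index ≠ 2) (hO : Cfsg.oddCore G = ⊥)
    (hZ : Subgroup.center G = ⊥) : InvolClosed P W ∧ InvolClosed P B ∧
      ∀ v ∈ B, orderOf v = 2 → IsConj v b := by
  obtain ⟨hyb, hyw⟩ := h.classes h2 hO hZ
  have hp := h.semi.pair
  have hIB : ∀ v ∈ B, orderOf v = 2 → IsConj v b := fun v hv hv2 => by
    rcases h.semi.invol_cases hv hv2 with rfl | ⟨-, p, -, e⟩
    · exact IsConj.refl _
    · exact (isConj_iff.2 ⟨p, e⟩).trans hyb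
  have hparts : ∀ {v w : G}, v ∈ B → w ∈ W → v * w * (v * w) = 1 → v ≠ 1 →
      IsConj (v * w) b ∧ w = 1 ∨ w ≠ 1 ∧ IsConj (v * w) (b * w) := by
    intro v w hv hw e hv1
    by_cases hw1 : w = 1
    · refine .inl ⟨?_, hw1⟩
      rw [hw1, mul_one] at e ⊢
      exact hIB v hv (orderOf_two e hv1)
    · refine .inr ⟨hw1, ?_⟩
      rcases h.invol_parts hv hw e with rfl | rfl | ⟨-, -, hy⟩
      · exact absurd rfl hv1
      · exact IsConj.refl _
      · exact hy.trans (hyw w hw hw1 w hw hw1)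
  have hsq : ∀ {z g : G}, orderOf z = 2 → ∀ {v w : G}, g * z * g⁻¹ = v * w → v * w * (v * w) = 1 :=
    fun {z g} hz {v w} e => by
      rw [← e, ← conj_mul', mul_self_two hz, mul_one, mul_inv_cancel]
  refine ⟨fun z hz hz2 g hg => ?_, fun z hz hz2 g hg => ?_, hIB⟩ <;>
    obtain ⟨v, hv, w, hw, e⟩ := hp.split hg <;>
    have hc : IsConj z (v * w) := isConj_iff.2 ⟨g, e⟩ <;> rw [e]
  · by_cases hv1 : v = 1
    · rw [hv1, one_mul]; exact hw
    exfalso
    rcases hparts hv hw (hsq hz2 e) hv1 with ⟨h', -⟩ | ⟨hw1, h'⟩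
    · exact h.not_b_w hz (hc.trans h').symm
    · exact h.not_w_bw hz (Invol.ne_one_of_orderOf_two hz2) hw hw1 (hc.trans h')
  · have hzb := hIB z hz hz2
    by_cases hv1 : v = 1
    · rw [hv1, one_mul] at hc
      exact absurd (hzb.symm.trans hc) (h.not_b_w hw)
    rcases hparts hv hw (hsq hz2 e) hv1 with ⟨-, hw1⟩ | ⟨hw1, h'⟩
    · rw [hw1, mul_one]; exact hv
    · exact absurd (hzb.symm.trans (hc.trans h')) (h.not_b_bw hw hw1)

end FourMove

/-- A four group and a quasi-dihedral factor can be chosen strongly closed. -/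
theorem exists_prod_of_four_semi (h2 : ∀ H : Subgroup G, H.Normal → H.index ≠ 2)
    (hO : Cfsg.oddCore G = ⊥) (hZ : Subgroup.center G = ⊥) {P : Sylow 2 G} {V B : Subgroup G}
    (hp : Pair P V B) (hcard : Nat.card V = 4) (hsq : ∀ v ∈ V, v * v = 1)
    (hB : Cfsg.IsQuasiDihedral B) :
    ∃ A' B' : Subgroup G, Prod P A' B' ∧ Nat.card A' = 4 ∧ (∀ v ∈ A', v * v = 1) ∧
      Cfsg.IsQuasiDihedral B' := by
  obtain ⟨n, x, y, b, hS⟩ := exists_semi hp.swap hB
  obtain ⟨B₀, W, x₀, y₀, k, hF⟩ := hS.exists_fourMove hsq h2 hcard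
  obtain ⟨IW, IB, -⟩ := hF.involClosed h2 hO hZ
  have hAn : ∀ g : G, (∀ w ∈ W, g * w * g⁻¹ ∈ (P : Subgroup G)) → ∀ w ∈ W, g * w * g⁻¹ ∈ W :=
    fun g hg w hw => by
      by_cases hw1 : w = 1
      · rw [hw1, mul_one, mul_inv_cancel]; exact one_mem W
      · exact IW w hw (orderOf_two (hF.sq w hw) hw1) g (hg w hw)
  obtain ⟨B₁, x₁, y₁, g₀, hS₁, IB₁, -, h₀A, h₀t⟩ := exists_moved h2 hF.semi IW IB hAn
  have F : Other W := by
    refine ⟨fun α hα _ _ _ _ _ _ _ _ _ _ => hF.sq α hα, fun u hu hu2 => ?_⟩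
    have hu1 := Invol.ne_one_of_orderOf_two hu2
    refine ⟨k * u * k⁻¹, hF.stable u hu, by rw [orderOf_conj, hu2],
      fun e => hu1 (hF.free u hu e), hF.central (hF.semi.pair.leB hu) (hF.stable u hu)⟩
  have hcl := hS₁.stronglyClosed IW IB₁ F h₀A h₀t hAn fun u hu _ =>
    ⟨1, fun w hw => by simpa using hS₁.pair.leA hw, by simpa using hu,
      fun α hα => by simpa using hF.central (hF.semi.pair.leB hα) hu⟩
  refine ⟨W, B₁, ⟨⟨hS₁.pair.leB, fun w hw g hg => ?_⟩, hcl, fun a ha c hc => (hS₁.pair.comm c hc a ha).symm,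
    hS₁.pair.swap.disj, hS₁.pair.swap.sup⟩, hF.card, hF.sq, hS₁.quasiDihedral⟩
  by_cases hw1 : w = 1
  · rw [hw1, mul_one, mul_inv_cancel]; exact one_mem W
  · exact IW w hw (orderOf_two (hF.sq w hw) hw1) g hg

end Cfsg.Agent.SDFactor
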