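import Cfsg.Agent.Lib.Fus.SDFactor.Fac
import Cfsg.Agent.Lib.Transfer.Product.Split.Closed

/-!
# Fusion of the involutions of two factors with one central involution each
-/

set_option autoImplicit false
set_option linter.unusedSectionVars false
set_option linter.style.haveILetI false

namespace Cfsg.Agent.SDFactor

open Cfsg Cfsg.Agent.ProdFus Cfsg.Agent.ProdFus.Split

universe u

variable {G : Type u} [Group G] [Finite G]

/-- Two factors with one central involution each. -/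
structure Mix (P : Sylow 2 G) (A B M N : Subgroup G) (a b : G) : Prop where
  left : Fac P A B M a
  right : Fac P B A N b

namespace Mix

variable {P : Sylow 2 G} {A B M N : Subgroup G} {a b : G} (T : Mix P A B M N a b)
include T

theorem symm : Mix P B A N M b a := ⟨T.right, T.left⟩

theorem a_ne_b : a ≠ b := fun e =>
  T.left.a_ne (T.left.pair.eq_one_of_mem T.left.a_mem (e ▸ T.right.a_mem))

theorem ab_comm : a * b = b * a := (T.left.pair.comm a T.left.a_mem b T.right.a_mem).eq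

theorem ab_ne_a : a * b ≠ a := fun e => T.right.a_ne (mul_eq_left.1 e)

theorem central_a {p : G} (hp : p ∈ (P : Subgroup G)) : Commute p a := T.left.a_commute_P hp

theorem central_b {p : G} (hp : p ∈ (P : Subgroup G)) : Commute p b := T.right.a_commute_P hp

theorem central_ab {p : G} (hp : p ∈ (P : Subgroup G)) : Commute p (a * b) :=
  (T.central_a hp).mul_right (T.central_b hp)

theorem center {z : G} (hz : z ∈ (P : Subgroup G)) (hc : ∀ p ∈ (P : Subgroup G), Commute p z) :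
    z = 1 ∨ z = a ∨ z = b ∨ z = a * b := by
  obtain ⟨u, hu, v, hv, rfl⟩ := T.left.pair.split hz
  have h1 : ∀ x ∈ A, Commute x u := fun x hx => by
    have := hc (x * 1) (T.left.pair.mul_mem' hx (one_mem B))
    exact ((T.left.pair.commute_iff hx (one_mem B) hu hv).1 this).1
  have h2 : ∀ x ∈ B, Commute x v := fun x hx => by
    have := hc (1 * x) (T.left.pair.mul_mem' (one_mem A) hx)
    exact ((T.left.pair.commute_iff (one_mem A) hx hu hv).1 this).2
  rcases T.left.center u hu h1 with e | e <;> rcases T.right.center v hv h2 with e' | e' <;>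
    simp [e, e']

/-- Roots of `a b` have abelian centralizers in the Sylow subgroup. -/
theorem comm_of_root {x p q : G} (hx : x ∈ (P : Subgroup G)) (e : x * x = a * b)
    (hp : p ∈ (P : Subgroup G)) (hq : q ∈ (P : Subgroup G)) (hpx : Commute p x)
    (hqx : Commute q x) : Commute p q := by
  have h := T.left.pair
  obtain ⟨u, hu, v, hv, rfl⟩ := h.split hx
  rw [h.sq hu hv] at e
  obtain ⟨h1, h2⟩ := h.uniq (mul_mem hu hu) T.left.a_mem (mul_mem hv hv) T.right.a_mem e
  obtain ⟨α, hα, β, hβ, rfl⟩ := h.split hp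
  obtain ⟨α', hα', β', hβ', rfl⟩ := h.split hq
  obtain ⟨c1, c2⟩ := (h.commute_iff hα hβ hu hv).1 hpx
  obtain ⟨c1', c2'⟩ := (h.commute_iff hα' hβ' hu hv).1 hqx
  exact (h.commute_iff hα hβ hα' hβ').2 ⟨T.left.root_comm u hu h1 α hα α' hα' c1 c1',
    T.right.root_comm v hv h2 β hβ β' hβ' c2 c2'⟩

theorem conj_a_ne_ab {n : G} (hn : n ∈ Subgroup.normalizer (P : Set G)) :
    n * a * n⁻¹ ≠ a * b := by
  intro e
  obtain ⟨c, hc, hca, -⟩ := T.left.root
  obtain ⟨x, hx, y, hy, hxy⟩ := T.right.nonab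
  have hm : ∀ {z : G}, z ∈ (P : Subgroup G) → n * z * n⁻¹ ∈ (P : Subgroup G) := fun hz =>
    (Subgroup.mem_normalizer_iff.1 hn _).1 hz
  have := T.comm_of_root (hm (T.left.pair.leA hc))
    (by rw [← conj_mul', hca, e]) (hm (T.left.pair.leB hx)) (hm (T.left.pair.leB hy))
    (commute_conj n (T.left.pair.comm c hc x hx).symm)
    (commute_conj n (T.left.pair.comm c hc y hy).symm)
  have := commute_conj n⁻¹ this
  refine hxy ?_
  simpa [mul_assoc] using this

theorem normalizer_fix {n : G} (hn : n ∈ Subgroup.normalizer (P : Set G)) :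
    n * a * n⁻¹ = a ∧ n * b * n⁻¹ = b := by
  have hcases : ∀ {z : G}, z ∈ (P : Subgroup G) → (∀ p ∈ (P : Subgroup G), Commute p z) →
      z ≠ 1 → n * z * n⁻¹ = a ∨ n * z * n⁻¹ = b ∨ n * z * n⁻¹ = a * b := by
    intro z hz hc hz1
    refine (T.center ((Subgroup.mem_normalizer_iff.1 hn _).1 hz) fun p hp => ?_).resolve_left
      fun e => hz1 (conj_eq_one_iff.1 e)
    have hp' : n⁻¹ * p * n ∈ (P : Subgroup G) := (Subgroup.mem_normalizer_iff''.1 hn _).1 hp
    have := commute_conj n (hc _ hp')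
    rwa [show n * (n⁻¹ * p * n) * n⁻¹ = p by group] at this
  have hb' : n * b * n⁻¹ ≠ a * b := T.ab_comm ▸ T.symm.conj_a_ne_ab hn
  rcases (hcases (T.left.pair.leA T.left.a_mem) (fun p hp => T.central_a hp) T.left.a_ne) with
    ea | ea | ea
  · rcases (hcases (T.left.pair.leB T.right.a_mem) (fun p hp => T.central_b hp) T.right.a_ne) with
      eb | eb | eb
    · exact absurd (mul_left_cancel (mul_right_cancel (eb.trans ea.symm))) T.a_ne_b.symm
    · exact ⟨ea, eb⟩
    · exact absurd eb hb'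
  · rcases (hcases (T.left.pair.leB T.right.a_mem) (fun p hp => T.central_b hp) T.right.a_ne) with
      eb | eb | eb
    · exact absurd (eq_of_swap hn (fun p hp => T.central_a hp) ea eb) T.a_ne_b
    · exact absurd (mul_left_cancel (mul_right_cancel (eb.trans ea.symm))) T.a_ne_b.symm
    · exact absurd eb hb'
  · exact absurd ea (T.conj_a_ne_ab hn)

theorem central_fusion {z z' g : G} (hz : z = a ∨ z = b ∨ z = a * b)
    (hz' : z' = a ∨ z' = b ∨ z' = a * b) (e : g * z * g⁻¹ = z') : z' = z := by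
  haveI : Fact (Nat.Prime 2) := ⟨Nat.prime_two⟩
  have hc : ∀ {w : G}, (w = a ∨ w = b ∨ w = a * b) →
      ∀ p ∈ (P : Subgroup G), Commute p w := by
    rintro w (rfl | rfl | rfl) p hp
    exacts [T.central_a hp, T.central_b hp, T.central_ab hp]
  obtain ⟨n, hn, e'⟩ :=
    Transfer.exists_normalizer_conj_elem P (hc hz) (g := g) (by rw [e]; exact hc hz')
  obtain ⟨na, nb⟩ := T.normalizer_fix hn
  rw [← e, ← e']
  rcases hz with rfl | rfl | rfl
  · exact na
  · exact nb
  · rw [conj_mul', na, nb]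

theorem not_conj_ab : ¬ IsConj a (a * b) := fun hc => by
  obtain ⟨g, e⟩ := isConj_iff.1 hc
  exact T.ab_ne_a (T.central_fusion (.inl rfl) (.inr (.inr rfl)) e)

theorem not_conj_b : ¬ IsConj a b := fun hc => by
  obtain ⟨g, e⟩ := isConj_iff.1 hc
  exact T.a_ne_b (T.central_fusion (.inl rfl) (.inr (.inl rfl)) e).symm

/-- An element moving `B` into the Sylow subgroup fixes `b`. -/
theorem fix_b {g : G} (hg : ∀ y ∈ B, g * y * g⁻¹ ∈ (P : Subgroup G)) : g * b * g⁻¹ = b := by
  obtain ⟨c, hc, hcb, -⟩ := T.right.root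
  obtain ⟨u, hu, v, hv, e⟩ := T.left.pair.split (hg c hc)
  have h2 : u * u * (v * v) = g * b * g⁻¹ := by
    rw [← T.left.pair.sq hu hv, ← e, ← conj_mul', hcb]
  have h4 : u * u * (u * u) = 1 ∧ v * v * (v * v) = 1 := by
    refine (T.left.pair.eq_one_iff (mul_mem (mul_mem hu hu) (mul_mem hu hu))
      (mul_mem (mul_mem hv hv) (mul_mem hv hv))).1 ?_
    rw [← T.left.pair.sq (mul_mem hu hu) (mul_mem hv hv), h2, ← conj_mul', T.right.a_sq, mul_one,
      mul_inv_cancel]
  have hne : g * b * g⁻¹ ≠ 1 := fun e => T.right.a_ne (conj_eq_one_iff.1 e)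
  refine (T.central_fusion (.inr (.inl rfl)) ?_ rfl : g * b * g⁻¹ = b)
  rw [← h2] at hne ⊢
  rcases T.left.sq u hu h4.1 with eu | eu <;> rcases T.right.sq v hv h4.2 with ev | ev <;>
    rw [eu, ev] at hne ⊢
  · exact absurd (mul_one 1) hne
  · exact .inr (.inl (one_mul b))
  · exact .inl (mul_one a)
  · exact .inr (.inr rfl)

/-- An involution of `A` other than `a` moves to `a` or to `a b` by an element fixing `b`. -/
theorem refl_move (h2 : ∀ H : Subgroup G, H.Normal → H.index ≠ 2) {x : G} (hx : x ∈ A)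
    (hxo : orderOf x = 2) (hxa : x ≠ a) :
    ∃ g : G, (∀ y ∈ B, g * y * g⁻¹ ∈ (P : Subgroup G)) ∧ g * b * g⁻¹ = b ∧
      (g * x * g⁻¹ = a ∨ g * x * g⁻¹ = a * b) := by
  have hx1 : x ≠ 1 := Invol.ne_one_of_orderOf_two hxo
  obtain ⟨g, hgB, hgP, hgM⟩ := exists_move h2 P T.left.sup_relIndex hxo
    (P.isPGroup'.to_le T.left.pair.leB) (fun t ht => (T.left.pair.comm x hx t ht).symm)
  have hgb := T.fix_b hgB
  obtain ⟨α, hα, β, hβ, e⟩ := T.left.pair.mem_sup T.left.le hgM
  have hαA := T.left.le hα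
  obtain ⟨c, hc, hcb, -⟩ := T.right.root
  obtain ⟨γ, hγ, δ, hδ, e'⟩ := T.left.pair.split (hgB c hc)
  have h2' : γ * γ = 1 ∧ δ * δ = b := by
    refine T.left.pair.uniq (mul_mem hγ hγ) (one_mem A) (mul_mem hδ hδ) T.right.a_mem ?_
    rw [← T.left.pair.sq hγ hδ, ← e', ← conj_mul', hcb, hgb, one_mul]
  have hcomm : Commute β δ := by
    have h1 := commute_conj g (T.left.pair.comm x hx c hc)
    rw [e, e'] at h1
    exact ((T.left.pair.commute_iff hαA hβ hγ hδ).1 h1).2
  have hsq : α * α = 1 ∧ β * β = 1 := by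
    refine (T.left.pair.eq_one_iff (mul_mem hαA hαA) (mul_mem hβ hβ)).1 ?_
    rw [← T.left.pair.sq hαA hβ, ← e, ← conj_mul', mul_self_two hxo, mul_one, mul_inv_cancel]
  have hne : g * x * g⁻¹ ≠ 1 := fun e => hx1 (conj_eq_one_iff.1 e)
  have hneb : g * x * g⁻¹ ≠ b := fun e1 => by
    have : x = b := mul_left_cancel (mul_right_cancel (e1.trans hgb.symm))
    exact hx1 (T.left.pair.eq_one_of_mem hx (this ▸ T.right.a_mem))
  refine ⟨g, hgB, hgb, ?_⟩
  rw [e] at hne hneb ⊢
  rcases T.left.invol α hα hsq.1 with ea | ea <;>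
    rcases T.right.root_invol β hβ hsq.2 δ hδ h2'.2 hcomm with eb | eb <;>
    rw [ea, eb] at hne hneb ⊢
  · exact absurd (mul_one 1) hne
  · exact absurd (one_mul b) hneb
  · exact .inl (mul_one a)
  · exact .inr rfl

theorem exists_class (h2 : ∀ H : Subgroup G, H.Normal → H.index ≠ 2) {x : G} (hx : x ∈ A)
    (hxo : orderOf x = 2) (hxa : x ≠ a) : ∃ u, (u = 1 ∨ u = b) ∧ IsConj (x * u) a := by
  obtain ⟨g, -, hgb, e | e⟩ := T.refl_move h2 hx hxo hxa
  · exact ⟨1, .inl rfl, by rw [mul_one]; exact isConj_iff.2 ⟨g, e⟩⟩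
  · exact ⟨b, .inr rfl, isConj_iff.2 ⟨g, by
      rw [conj_mul', e, hgb, mul_assoc, T.right.a_sq, mul_one]⟩⟩

section Normalised

variable (h2 : ∀ H : Subgroup G, H.Normal → H.index ≠ 2)
  (IA : ∀ x ∈ A, orderOf x = 2 → IsConj x a) (IB : ∀ x ∈ B, orderOf x = 2 → IsConj x b)
include h2 IA

theorem refl_to_a {x : G} (hx : x ∈ A) (hxo : orderOf x = 2) (hxa : x ≠ a) :
    ∃ g : G, (∀ y ∈ B, g * y * g⁻¹ ∈ (P : Subgroup G)) ∧ g * b * g⁻¹ = b ∧ g * x * g⁻¹ = a := by
  obtain ⟨g, hgB, hgb, e | e⟩ := T.refl_move h2 hx hxo hxa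
  · exact ⟨g, hgB, hgb, e⟩
  · exact absurd ((IA x hx hxo).symm.trans (isConj_iff.2 ⟨g, e⟩)) T.not_conj_ab

include IB

/-- A product of involutions of the two factors is not conjugate to `a`. -/
theorem prod_not_conj {t v : G} (ht : t ∈ A) (ht2 : orderOf t = 2) (hv : v ∈ B)
    (hv2 : orderOf v = 2) : ¬ IsConj (t * v) a := by
  have hab : ¬ IsConj (a * b) a := fun e => T.not_conj_ab e.symm
  have hat : ∀ {v : G}, v ∈ B → orderOf v = 2 → IsConj (a * v) (a * b) := by
    intro v hv hv2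
    by_cases hvb : v = b
    · rw [hvb]
    · obtain ⟨g, -, hga, e⟩ := T.symm.refl_to_a h2 IB hv hv2 hvb
      exact isConj_iff.2 ⟨g, by rw [conj_mul', e, hga]⟩
  intro hc
  by_cases hta : t = a
  · exact hab ((hat hv hv2).symm.trans (hta ▸ hc))
  obtain ⟨g, hgB, -, ega⟩ := T.refl_to_a h2 IA ht ht2 hta
  obtain ⟨α, hα, β, hβ, e⟩ := T.left.pair.split (hgB v hv)
  have h1 : IsConj (t * v) (a * α * β) := isConj_iff.2 ⟨g, by rw [conj_mul', ega, e, mul_assoc]⟩
  have hq : IsConj (α * β) b := (isConj_iff.2 ⟨g, e⟩ : IsConj v (α * β)).symm.trans (IB v hv hv2)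
  have hsq : α * α = 1 ∧ β * β = 1 := by
    refine (T.left.pair.eq_one_iff (mul_mem hα hα) (mul_mem hβ hβ)).1 ?_
    rw [← T.left.pair.sq hα hβ, ← e, ← conj_mul', mul_self_two hv2, mul_one, mul_inv_cancel]
  have hc' : IsConj (a * α * β) a := h1.symm.trans hc
  by_cases hβ1 : β = 1
  · by_cases hα1 : α = 1
    · rw [hα1, hβ1, mul_one] at hq
      exact T.right.a_ne (isConj_one_right.1 hq)
    · rw [hβ1, mul_one] at hq
      exact T.not_conj_b ((IA α hα (orderOf_two hsq.1 hα1)).symm.trans hq)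
  by_cases hα1 : α = 1
  · rw [hα1, mul_one] at hc'
    exact hab ((hat hβ (orderOf_two hsq.2 hβ1)).symm.trans hc')
  refine T.not_conj_b ((hc'.symm.trans ?_).trans hq)
  by_cases hαa : α = a
  · subst hαa
    rw [T.left.a_sq, one_mul]
    exact (IB β hβ (orderOf_two hsq.2 hβ1)).trans hq.symm
  · obtain ⟨c, hcA, -, hc⟩ := T.left.root
    refine (isConj_iff.2 ⟨c, ?_⟩).symm
    rw [conj_mul', hc α hα (orderOf_two hsq.1 hα1) hαa, (T.left.pair.comm c hcA β hβ).eq,
      mul_inv_cancel_right]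

theorem involClosed : InvolClosed P A := by
  intro x hx hx2 g hg
  obtain ⟨t, ht, v, hv, e⟩ := T.left.pair.split hg
  have hq : IsConj (t * v) a :=
    (isConj_iff.2 ⟨g, e⟩ : IsConj x (t * v)).symm.trans (IA x hx hx2)
  have hsq : t * t = 1 ∧ v * v = 1 := by
    refine (T.left.pair.eq_one_iff (mul_mem ht ht) (mul_mem hv hv)).1 ?_
    rw [← T.left.pair.sq ht hv, ← e, ← conj_mul', mul_self_two hx2, mul_one, mul_inv_cancel]
  by_cases hv1 : v = 1
  · rw [e, hv1, mul_one]; exact ht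
  exfalso
  by_cases ht1 : t = 1
  · rw [ht1, one_mul] at hq
    exact T.not_conj_b (hq.symm.trans (IB v hv (orderOf_two hsq.2 hv1)))
  · exact T.prod_not_conj h2 IA IB ht (orderOf_two hsq.1 ht1) hv (orderOf_two hsq.2 hv1) hq

end Normalised

end Mix

end Cfsg.Agent.SDFactor
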