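import Cfsg.Agent.Lib.Invol.QuasiDihedral
import Cfsg.Agent.Lib.Transfer.Product.Split.Basic

/-!
# A quasi-dihedral direct factor of a Sylow 2-subgroup, as data

`B = ⟨x, y⟩` with `x` of order `4 * qq n` and `b` its central involution; `mainSub` is the subgroup generated
by the involutions, `⟨x ^ 2, y⟩`.
-/

set_option autoImplicit false
set_option linter.unusedSectionVars false
set_option linter.style.haveILetI false

namespace Cfsg.Agent.SDFactor

open Cfsg Cfsg.Agent.ProdFus.Split Cfsg.Agent.Invol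

universe u

variable {G : Type u} [Group G] [Finite G]

/-- A quasi-dihedral factor of the Sylow subgroup, with generators. -/
structure Semi (P : Sylow 2 G) (B A : Subgroup G) (n : ℕ) (x y b : G) : Prop where
  pair : Pair P B A
  x_mem : x ∈ B
  y_mem : y ∈ B
  hn : 3 ≤ n
  card : Nat.card B = 2 ^ (n + 1)
  ox : orderOf x = 2 ^ n
  oy : orderOf y = 2
  conj : y * x * y⁻¹ = x ^ (2 ^ (n - 1) - 1)
  b_eq : b = x ^ (2 * qq n)

theorem exists_semi {P : Sylow 2 G} {B A : Subgroup G} (hp : Pair P B A) (h : Cfsg.IsQuasiDihedral B) :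
    ∃ (n : ℕ) (x y b : G), Semi P B A n x y b := by
  obtain ⟨n, x, y, hq⟩ := exists_qd h
  refine ⟨n, x, y, _, hp, x.2, y.2, hq.hn, hq.card, ?_, ?_, ?_, rfl⟩
  · rw [Subgroup.orderOf_coe]; exact hq.ox
  · rw [Subgroup.orderOf_coe]; exact hq.oy
  · simpa only [Subgroup.coe_mul, Subgroup.coe_inv, SubgroupClass.coe_pow] using
      congrArg Subtype.val hq.conj

namespace Semi

variable {P : Sylow 2 G} {B A : Subgroup G} {n : ℕ} {x y b : G} (h : Semi P B A n x y b)
include h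

/-- The generators inside `B`. -/
theorem qd : QD B n ⟨x, h.x_mem⟩ ⟨y, h.y_mem⟩ :=
  ⟨h.hn, h.card, by rw [Subgroup.orderOf_mk]; exact h.ox, by rw [Subgroup.orderOf_mk]; exact h.oy,
    Subtype.ext (by simpa using h.conj)⟩

theorem zmem (i : ℤ) : x ^ i ∈ B := zpow_mem h.x_mem i

theorem ymem (i : ℤ) : x ^ i * y ∈ B := mul_mem (h.zmem i) h.y_mem

theorem cases {v : G} (hv : v ∈ B) : ∃ i : ℤ, v = x ^ i ∨ v = x ^ i * y := by
  obtain ⟨i, e | e⟩ := h.qd.cases' ⟨v, hv⟩
  · exact ⟨i, .inl (by simpa using congrArg Subtype.val e)⟩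
  · exact ⟨i, .inr (by simpa using congrArg Subtype.val e)⟩

theorem orderOf_cast : (orderOf x : ℤ) = 4 * qq n := by
  rw [← h.qd.orderOf_cast, Subgroup.orderOf_mk]

theorem zpow_eq {i j : ℤ} : x ^ i = x ^ j ↔ 4 * qq n ∣ i - j := by
  rw [← h.orderOf_cast, orderOf_dvd_sub_iff_zpow_eq_zpow]

theorem zpow_eq_one {i : ℤ} : x ^ i = 1 ↔ 4 * qq n ∣ i := by
  rw [← h.orderOf_cast, orderOf_dvd_iff_zpow_eq_one]

theorem zpow_mul_y_ne (i j : ℤ) : x ^ i * y ≠ x ^ j := fun e =>
  h.qd.zpow_mul_y_ne i j (Subtype.ext (by simpa using e))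

theorem y_not_C : y ∉ Subgroup.zpowers x := fun hy => by
  obtain ⟨j, hj⟩ := Subgroup.mem_zpowers_iff.1 hy
  exact h.zpow_mul_y_ne 0 j (by rw [zpow_zero, one_mul, hj])

theorem C_le : Subgroup.zpowers x ≤ B := Subgroup.zpowers_le.2 h.x_mem

theorem not_C (i : ℤ) : x ^ i * y ∉ Subgroup.zpowers x := fun hy => by
  obtain ⟨j, hj⟩ := Subgroup.mem_zpowers_iff.1 hy
  exact h.zpow_mul_y_ne i j hj.symm

theorem y_sq : y * y = 1 := mul_self_two h.oy

theorem y_zpow (i : ℤ) : y * x ^ i = x ^ (i * (2 * qq n - 1)) * y := by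
  simpa using congrArg Subtype.val (h.qd.y_mul_zpow i)

theorem b_mem : b ∈ B := h.b_eq ▸ h.zmem _

theorem b_ord : orderOf b = 2 := by
  have := h.qd.orderOf_z
  rw [← Subgroup.orderOf_coe] at this
  simpa [h.b_eq] using this

theorem b_central : ∀ v ∈ B, Commute v b := fun v hv => by
  have := congrArg Subtype.val (h.qd.z_central ⟨v, hv⟩)
  rw [Subgroup.coe_mul, Subgroup.coe_mul, SubgroupClass.coe_zpow] at this
  rw [h.b_eq]
  exact this

theorem b_zpow : b ∈ Subgroup.zpowers x := h.b_eq ▸ zpow_mem (Subgroup.mem_zpowers x) _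

theorem b_sq : b * b = 1 := mul_self_two h.b_ord

theorem b_ne : b ≠ 1 := Invol.ne_one_of_orderOf_two h.b_ord

theorem sq_zpow (i : ℤ) : x ^ i * x ^ i = 1 ↔ x ^ i = 1 ∨ x ^ i = b := by
  have := h.qd.zpow_sq i
  simp only [Subtype.ext_iff, Subgroup.coe_mul, SubgroupClass.coe_zpow, Subgroup.coe_one] at this
  rw [h.b_eq]
  exact this

theorem sq_ymul (i : ℤ) : x ^ i * y * (x ^ i * y) = x ^ (i * (2 * qq n)) := by
  simpa using congrArg Subtype.val (h.qd.sq_mul_y i)

/-- An element of the cyclic subgroup commuting with an element outside it squares to one. -/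
theorem dvd_of_commute {i j : ℤ} (hc : Commute (x ^ i * y) (x ^ j)) : 2 * qq n ∣ j := by
  have e : x ^ (j * (2 * qq n - 1)) = x ^ j := by
    have h1 := hc.eq
    rw [mul_assoc, h.y_zpow j, ← mul_assoc, ← mul_assoc, ← zpow_add, ← zpow_add] at h1
    have h2 := mul_right_cancel h1
    rw [zpow_add, zpow_add, (Commute.zpow_zpow (Commute.refl x) j i).eq] at h2
    exact mul_left_cancel h2
  obtain ⟨c, hc'⟩ := h.zpow_eq.1 e
  obtain ⟨d, hd⟩ := h.qd.qq_sq
  have h3 : j * (qq n - 1) = 2 * qq n * c := by linarith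
  refine ⟨j * d - c * (qq n + 1), ?_⟩
  linear_combination (-(qq n + 1)) * h3 + j * hd

/-- The centralizer in `B` of an element outside the cyclic subgroup. -/
theorem centralizer_cases {v w : G} (hv : v ∈ B) (hvC : v ∉ Subgroup.zpowers x) (hw : w ∈ B)
    (hc : Commute v w) : w = 1 ∨ w = b ∨ w = v ∨ w = b * v := by
  obtain ⟨i, rfl | rfl⟩ := h.cases hv
  · exact absurd (zpow_mem (Subgroup.mem_zpowers x) i) hvC
  have hsq : ∀ {j : ℤ}, 2 * qq n ∣ j → x ^ j = 1 ∨ x ^ j = b := by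
    rintro j ⟨c, rfl⟩
    refine (h.sq_zpow _).1 ?_
    rw [← zpow_add, h.zpow_eq_one]
    exact ⟨c, by ring⟩
  obtain ⟨k, rfl | rfl⟩ := h.cases hw
  · rcases hsq (h.dvd_of_commute hc) with e | e
    · exact .inl e
    · exact .inr (.inl e)
  · have e1 : x ^ k * y = x ^ (k - i) * (x ^ i * y) := by
      rw [← mul_assoc, ← zpow_add, sub_add_cancel]
    have hd : Commute (x ^ i * y) (x ^ (k - i)) := by
      have := hc.mul_right (Commute.refl (x ^ i * y)).inv_right
      rwa [e1, mul_inv_cancel_right] at this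
    rcases hsq (h.dvd_of_commute hd) with e | e
    · exact .inr (.inr (.inl (by rw [e1, e, one_mul])))
    · exact .inr (.inr (.inr (by rw [e1, e])))

theorem mem_C_of_commute {v w : G} (hv : v ∈ Subgroup.zpowers x) (hv2 : v * v ≠ 1) (hw : w ∈ B)
    (hc : Commute w v) : w ∈ Subgroup.zpowers x := by
  by_contra hwC
  rcases h.centralizer_cases hw hwC (h.C_le hv) hc with e | e | e | e
  · exact hv2 (by rw [e, mul_one])
  · exact hv2 (by rw [e, h.b_sq])
  · exact hwC (e ▸ hv)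
  · refine hwC ?_
    have := mul_mem (inv_mem h.b_zpow) (e ▸ hv)
    rwa [inv_mul_cancel_left] at this

theorem C_comm {v w : G} (hv : v ∈ Subgroup.zpowers x) (hw : w ∈ Subgroup.zpowers x) :
    Commute v w := by
  obtain ⟨i, rfl⟩ := Subgroup.mem_zpowers_iff.1 hv
  obtain ⟨j, rfl⟩ := Subgroup.mem_zpowers_iff.1 hw
  exact Commute.zpow_zpow (Commute.refl x) i j

theorem C_invol {v : G} (hv : v ∈ Subgroup.zpowers x) (h2 : v * v = 1) : v = 1 ∨ v = b := by
  obtain ⟨i, rfl⟩ := Subgroup.mem_zpowers_iff.1 hv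
  exact (h.sq_zpow i).1 h2

/-- Squares of order at most two. -/
theorem sq_cases {v : G} (hv : v ∈ B) (h4 : v * v * (v * v) = 1) : v * v = 1 ∨ v * v = b := by
  obtain ⟨i, rfl | rfl⟩ := h.cases hv
  · rw [← zpow_add] at h4 ⊢
    exact (h.sq_zpow _).1 h4
  · rw [h.sq_ymul] at h4 ⊢
    exact (h.sq_zpow _).1 h4

theorem center_cases {z : G} (hz : z ∈ B) (hc : ∀ v ∈ B, Commute v z) : z = 1 ∨ z = b := by
  obtain ⟨i, rfl | rfl⟩ := h.cases hz
  · refine (h.sq_zpow i).1 ?_
    obtain ⟨c, rfl⟩ := h.dvd_of_commute (i := 0) (by simpa using hc y h.y_mem)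
    rw [← zpow_add, h.zpow_eq_one]
    exact ⟨c, by ring⟩
  · exfalso
    obtain ⟨c, hc'⟩ := h.dvd_of_commute (i := i) (j := 1) (by simpa using (hc x h.x_mem).symm)
    have : (2 : ℤ) ∣ 1 := ⟨qq n * c, by linarith⟩
    omega

theorem exists_not_commute : ∃ v ∈ B, ∃ w ∈ B, ¬ Commute v w := by
  refine ⟨y, h.y_mem, x, h.x_mem, fun hc => ?_⟩
  obtain ⟨c, hc'⟩ := h.dvd_of_commute (i := 0) (j := 1) (by simpa using hc)
  have : (2 : ℤ) ∣ 1 := ⟨qq n * c, by linarith⟩
  omega

/-- Involutions other than `b` are conjugate to `y`. -/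
theorem invol_cases {v : G} (hv : v ∈ B) (h2 : orderOf v = 2) :
    v = b ∨ (v ∉ Subgroup.zpowers x ∧ ∃ p ∈ B, p * v * p⁻¹ = y) := by
  rcases h.qd.involution_cases (t := ⟨v, hv⟩) (by rw [Subgroup.orderOf_mk]; exact h2) with e | ⟨i, hi, e⟩
  · exact .inl (h.b_eq ▸ (by simpa using congrArg Subtype.val e))
  · have e' : v = x ^ i * y := by simpa using congrArg Subtype.val e
    obtain ⟨k, hk⟩ := h.qd.conj_mul_y (i := i) (j := 0) (by omega)
    refine .inr ⟨e' ▸ h.not_C i, x ^ k, h.zmem k, ?_⟩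
    have := congrArg Subtype.val hk
    simp only [Subgroup.coe_mul, Subgroup.coe_inv, SubgroupClass.coe_zpow, zpow_zero, one_mul] at this
    rw [e']
    exact this

theorem xy_not_C : x * y ∉ Subgroup.zpowers x := by simpa using h.not_C 1

theorem xy_mem : x * y ∈ B := mul_mem h.x_mem h.y_mem

theorem xy_ord : orderOf (x * y) = 4 := by
  have := h.qd.orderOf_mul_y_odd (i := 1) (by omega)
  rw [← Subgroup.orderOf_coe] at this
  simpa using this

theorem xy_sq : x * y * (x * y) = b := by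
  have := h.sq_ymul 1
  rwa [zpow_one, one_mul, ← h.b_eq] at this

/-- The elements outside the cyclic subgroup that are not involutions are conjugate to `x y`. -/
theorem four_conj {v : G} (hv : v ∈ B) (hvC : v ∉ Subgroup.zpowers x) (h2 : v * v ≠ 1) :
    orderOf v = 4 ∧ ∃ p ∈ B, p * v * p⁻¹ = x * y := by
  obtain ⟨i, rfl | rfl⟩ := h.cases hv
  · exact absurd (zpow_mem (Subgroup.mem_zpowers x) i) hvC
  have hi : ¬ 2 ∣ i := by
    rintro ⟨c, rfl⟩
    refine h2 ?_
    rw [h.sq_ymul, h.zpow_eq_one]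
    exact ⟨c, by ring⟩
  obtain ⟨k, hk⟩ := h.qd.conj_mul_y (i := i) (j := 1) (by omega)
  refine ⟨?_, x ^ k, h.zmem k, by simpa using congrArg Subtype.val hk⟩
  have := h.qd.orderOf_mul_y_odd hi
  rw [← Subgroup.orderOf_coe] at this
  simpa using this

/-- A root of `b` in the cyclic subgroup. -/
theorem exists_root : ∃ q ∈ Subgroup.zpowers x, q * q = b ∧
    ∀ v ∈ B, orderOf v = 2 → v ≠ b → q * v * q⁻¹ = b * v := by
  refine ⟨x ^ qq n, zpow_mem (Subgroup.mem_zpowers x) _, by rw [h.b_eq, ← zpow_add]; ring_nf,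
    fun v hv hv2 hvb => ?_⟩
  obtain ⟨hvC, -⟩ := (h.invol_cases hv hv2).resolve_left hvb
  obtain ⟨i, rfl | rfl⟩ := h.cases hv
  · exact absurd (zpow_mem (Subgroup.mem_zpowers x) i) hvC
  have := congrArg Subtype.val (h.qd.conj_x (qq n) i)
  simp only [Subgroup.coe_mul, Subgroup.coe_inv, SubgroupClass.coe_zpow] at this
  rw [this, h.b_eq, ← mul_assoc, ← zpow_add]
  congr 1
  rw [h.zpow_eq]
  obtain ⟨d, hd⟩ := h.qd.qq_sq
  exact ⟨-d, by linear_combination (-2) * hd⟩

/-- Roots of `b` have abelian centralizers in `B`. -/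
theorem root_comm {v w w' : G} (hv : v ∈ B) (e : v * v = b) (hw : w ∈ B) (hw' : w' ∈ B)
    (c : Commute w v) (c' : Commute w' v) : Commute w w' := by
  have hv2 : v * v ≠ 1 := e ▸ h.b_ne
  by_cases hC : v ∈ Subgroup.zpowers x
  · exact h.C_comm (h.mem_C_of_commute hC hv2 hw c) (h.mem_C_of_commute hC hv2 hw' c')
  have hb := h.b_central v hv
  rcases h.centralizer_cases hv hC hw c.symm with rfl | rfl | rfl | rfl <;>
    rcases h.centralizer_cases hv hC hw' c'.symm with rfl | rfl | rfl | rfl <;>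
    first
      | exact Commute.one_left _ | exact Commute.one_right _ | exact Commute.refl _
      | exact hb | exact hb.symm
      | exact (Commute.refl _).mul_right hb.symm | exact hb.mul_right (Commute.refl _)
      | exact (Commute.refl _).mul_left hb.symm | exact hb.symm.mul_left (Commute.refl _)
      | exact (hb.symm.mul_left (Commute.refl _))
      | exact ((Commute.refl _).mul_left hb).symm
      | exact (Commute.refl _).mul_left hb

/-- The centralizer in `B` of an element of order at least four. -/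
theorem card_centralizer_le {v : G} (hv : v ∈ B) (hv2 : v * v ≠ 1) :
    {w : G | w ∈ B ∧ Commute w v}.ncard ≤ Nat.card (Subgroup.zpowers x) := by
  by_cases hC : v ∈ Subgroup.zpowers x
  · exact Set.ncard_le_ncard (fun w hw => h.mem_C_of_commute hC hv2 hw.1 hw.2) (Set.toFinite _)
  · have hsub : {w : G | w ∈ B ∧ Commute w v} ⊆ ({1, b, v, b * v} : Set G) := fun w hw => by
      rcases h.centralizer_cases hv hC hw.1 hw.2.symm with e | e | e | e <;> simp [e]
    refine (Set.ncard_le_ncard hsub (Set.toFinite _)).trans ?_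
    rw [Nat.card_zpowers, h.ox]
    refine le_trans ?_ (Nat.pow_le_pow_right two_pos (show 2 ≤ n by linarith [h.hn]))
    have h3 := Set.ncard_insert_le (1 : G) {b, v, b * v}
    have h4 := Set.ncard_insert_le b ({v, b * v} : Set G)
    have h5 := Set.ncard_insert_le v ({b * v} : Set G)
    rw [Set.ncard_singleton] at h5
    omega

theorem index_C : (Subgroup.zpowers x).relIndex B = 2 := by
  rw [Subgroup.relIndex, ← h.qd.index_zpowers]
  congr 1
  ext ⟨v, hv⟩
  simp only [Subgroup.mem_subgroupOf, Subgroup.mem_zpowers_iff, Subtype.ext_iff,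
    SubgroupClass.coe_zpow]

/-- The subgroup generated by the involutions of `B`. -/
def mainSub (h : Semi P B A n x y b) : Subgroup G :=
  (h.qd.sub 2 (QD.two_dvd n) 0).map B.subtype

theorem mainSub_le : h.mainSub ≤ B := Subgroup.map_subtype_le _

theorem mem_mainSub {v : G} : v ∈ h.mainSub ↔ ∃ k : ℤ, v = x ^ (k * 2) ∨ v = x ^ (k * 2) * y := by
  constructor
  · rintro ⟨w, ⟨k, rfl | rfl⟩, rfl⟩
    · exact ⟨k, .inl (by simp)⟩
    · exact ⟨k, .inr (by simp)⟩
  · rintro ⟨k, rfl | rfl⟩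
    · exact ⟨⟨_, h.zmem _⟩, ⟨k, .inl (Subtype.ext (by simp))⟩, rfl⟩
    · exact ⟨⟨_, h.ymem _⟩, ⟨k, .inr (Subtype.ext (by simp))⟩, rfl⟩

theorem invol_mem_mainSub {v : G} (hv : v ∈ B) (h2 : v * v = 1) : v ∈ h.mainSub := by
  obtain ⟨i, rfl | rfl⟩ := h.cases hv
  · rcases (h.sq_zpow i).1 h2 with e | e
    · exact e ▸ one_mem _
    · exact h.mem_mainSub.2 ⟨qq n, .inl (by rw [e, h.b_eq, mul_comm])⟩
  · rw [h.sq_ymul, h.zpow_eq_one] at h2
    obtain ⟨c, hc⟩ := h2
    have : i = c * 2 := mul_right_cancel₀ (mul_ne_zero two_ne_zero h.qd.qq_pos.ne')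
      (by linarith : i * (2 * qq n) = c * 2 * (2 * qq n))
    exact h.mem_mainSub.2 ⟨c, .inr (by rw [this])⟩

theorem xy_not_mainSub : x * y ∉ h.mainSub := by
  rintro ⟨w, hw, e⟩
  have : w = ⟨x, h.x_mem⟩ ^ (1 : ℤ) * ⟨y, h.y_mem⟩ := Subtype.ext (by simpa using e)
  rw [this, SetLike.mem_coe, h.qd.mul_y_mem_sub] at hw
  omega

/-- Elements of order at least four of `mainSub` lie in the cyclic subgroup. -/
theorem mainSub_C {v : G} (hv : v ∈ h.mainSub) (h2 : v * v ≠ 1) : v ∈ Subgroup.zpowers x := by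
  obtain ⟨k, rfl | rfl⟩ := h.mem_mainSub.1 hv
  · exact zpow_mem (Subgroup.mem_zpowers x) _
  · exfalso
    refine h2 ?_
    rw [h.sq_ymul, h.zpow_eq_one]
    exact ⟨k, by ring⟩

theorem index_mainSub : h.mainSub.relIndex B = 2 := by
  rw [mainSub, Subgroup.relIndex, Subgroup.subgroupOf,
    Subgroup.comap_map_eq_self_of_injective B.subtype_injective, Subgroup.index_eq_two_iff]
  refine ⟨⟨x, h.x_mem⟩, fun w => ?_⟩
  obtain ⟨i, rfl | rfl⟩ := h.qd.cases' w
  · rw [show (⟨x, h.x_mem⟩ : B) ^ i * ⟨x, h.x_mem⟩ = ⟨x, h.x_mem⟩ ^ (i + 1) by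
      rw [zpow_add, zpow_one], h.qd.zpow_mem_sub, h.qd.zpow_mem_sub]
    rcases Int.even_or_odd' i with ⟨c, rfl | rfl⟩
    · exact .inr ⟨⟨c, rfl⟩, by omega⟩
    · exact .inl ⟨⟨c + 1, by ring⟩, by omega⟩
  · have e := h.qd.mul_y_mul_zpow i 1
    rw [zpow_one] at e
    rw [e, h.qd.mul_y_mem_sub, h.qd.mul_y_mem_sub]
    rcases Int.even_or_odd' i with ⟨c, rfl | rfl⟩
    · exact .inr ⟨⟨c, by ring⟩, by omega⟩
    · exact .inl ⟨⟨c + qq n, by ring⟩, by omega⟩

/-- `B` is generated by `y` and `x y`. -/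
theorem mem_of_gens {H : Subgroup G} (hy : y ∈ H) (hxy : x * y ∈ H) : B ≤ H := by
  intro v hv
  have hx : x ∈ H := by
    have := mul_mem hxy (inv_mem hy)
    rwa [mul_inv_cancel_right] at this
  obtain ⟨i, rfl | rfl⟩ := h.cases hv
  · exact zpow_mem hx i
  · exact mul_mem (zpow_mem hx i) hy

theorem quasiDihedral : Cfsg.IsQuasiDihedral B :=
  ⟨n, h.hn, h.card, ⟨x, h.x_mem⟩, ⟨y, h.y_mem⟩, h.qd.ox, h.qd.oy, h.qd.conj⟩

/-- Twisting `B` by a central involution of the other factor along a subgroup of index two. -/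
theorem exists_twist {M : Subgroup G} (hM : M.relIndex B = 2) (hb : b ∈ M) {u : G} (hu : u ∈ A)
    (hu2 : u * u = 1) (huc : ∀ z ∈ A, Commute z u) :
    ∃ (B' : Subgroup G) (x' y' : G), Semi P B' A n x' y' b ∧
      (∀ v ∈ B, v ∈ M → v ∈ B') ∧ (x ∈ M → x' = x) ∧ (x ∉ M → x' = x * u) ∧
      (y ∈ M → y' = y) ∧ (y ∉ M → y' = y * u) := by
  classical
  set K := M.subgroupOf B with hK
  have hKi : K.index = 2 := hM
  set c : B → G := fun v => if v ∈ K then 1 else u with hcdef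
  have hcA : ∀ v, c v ∈ A := fun v => by
    simp only [hcdef]; split <;> [exact one_mem A; exact hu]
  have hcc : ∀ v, ∀ z ∈ A, Commute z (c v) := fun v z hz => by
    simp only [hcdef]; split <;> [exact Commute.one_right z; exact huc z hz]
  have hcm : ∀ v w, c (v * w) = c v * c w := fun v w => by
    have hvw := Subgroup.mul_mem_iff_of_index_two hKi (a := v) (b := w)
    simp only [hcdef]
    by_cases hv : v ∈ K <;> by_cases hw : w ∈ K <;> simp_all
  let φ : B →* G := MonoidHom.mk' (fun v => (v : G) * c v) fun v w => by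
    rw [Subgroup.coe_mul, hcm]
    calc (v : G) * w * (c v * c w) = v * ((w : G) * c v) * c w := by group
      _ = v * (c v * (w : G)) * c w := by rw [(h.pair.comm _ w.2 _ (hcA v)).eq]
      _ = _ := by group
  have hφ : ∀ v : B, φ v = (v : G) * c v := fun _ => rfl
  have hone : ∀ (v : B) {z : G}, z ∈ A → φ v = z → v = 1 := fun v z hz e =>
    Subtype.ext (h.pair.uniq v.2 (one_mem B) (hcA v) hz (by rw [one_mul]; exact e)).1
  have hinj : Function.Injective φ :=
    (injective_iff_map_eq_one φ).2 fun v hv => hone v (one_mem A) hv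
  have hMB : ∀ v (hv : v ∈ B), v ∈ M → φ ⟨v, hv⟩ = v := fun v hv hvM => by
    rw [hφ]
    simp only [hcdef, hK, Subgroup.mem_subgroupOf, hvM, if_true, mul_one]
  have hout : ∀ v (hv : v ∈ B), v ∉ M → φ ⟨v, hv⟩ = v * u := fun v hv hvM => by
    rw [hφ]
    simp only [hcdef, hK, Subgroup.mem_subgroupOf, hvM, if_false]
  refine ⟨φ.range, φ ⟨x, h.x_mem⟩, φ ⟨y, h.y_mem⟩,
    { pair := ⟨?_, ?_, ?_⟩, x_mem := ⟨_, rfl⟩, y_mem := ⟨_, rfl⟩, hn := h.hn, card := ?_,
      ox := ?_, oy := ?_, conj := ?_, b_eq := ?_ },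
    fun v hv hvM => ⟨⟨v, hv⟩, hMB v hv hvM⟩, hMB x h.x_mem, hout x h.x_mem, hMB y h.y_mem,
    hout y h.y_mem⟩
  · rintro _ ⟨v, rfl⟩ z hz
    exact (h.pair.comm v v.2 z hz).mul_left (hcc v z hz).symm
  · rw [eq_bot_iff]
    rintro _ ⟨⟨v, rfl⟩, hz⟩
    rw [Subgroup.mem_bot, hone v hz rfl, map_one]
  · refine le_antisymm (sup_le ?_ h.pair.leB) ?_
    · rintro _ ⟨v, rfl⟩
      exact h.pair.mul_mem' v.2 (hcA v)
    · rw [← h.pair.sup]
      refine sup_le (fun v hv => ?_) le_sup_right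
      rw [show v = φ ⟨v, hv⟩ * (c ⟨v, hv⟩)⁻¹ by rw [hφ, mul_inv_cancel_right]]
      exact Subgroup.mul_mem_sup ⟨_, rfl⟩ (inv_mem (hcA _))
  · rw [← Nat.card_congr (MonoidHom.ofInjective hinj).toEquiv, h.card]
  · rw [orderOf_injective φ hinj, Subgroup.orderOf_mk, h.ox]
  · rw [orderOf_injective φ hinj, Subgroup.orderOf_mk, h.oy]
  · rw [← map_inv, ← map_mul, ← map_mul, ← map_pow]
    exact congrArg φ h.qd.conj
  · rw [← map_zpow]
    refine (hMB b h.b_mem hb).symm.trans (congrArg φ (Subtype.ext ?_))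
    rw [SubgroupClass.coe_zpow]
    exact h.b_eq

end Semi

end Cfsg.Agent.SDFactor
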